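/- Recognition of the McLaughlin group: words, relators and the facts about the model.
Letters: 0..3 generate the centraliser of the involution 4, the letters 4, 5 generate a four-group,
6 and 7 lie in the two elementary abelian groups of order 16 above it, 8 is the new letter. -/
import Cfsg.Agent.REC.Amal

set_option autoImplicit false

namespace CL.Rec.McL

open CL.K CL.CG CL.CE CL.A10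

/-- Carmichael generators -/
def WX : List (List ℕ) := [[1,3,1,3,2,0,3,0,1,2,0], [0,2,1,0,2,3,2,1,0,3,1], [0,2,1,3,1,3,0,2,3,0,1], [1,2,3,0,2,1,3,1,0,2,3], [0,3,1,3,0,2,0,1,2,0,3,2], [0,1,3,1,2,0,3,2,1,3,2]]

/-- conjugators for the involutions of the Sylow 2-subgroup -/
def WZ : List (List ℕ) := [[], [0], [0,2,1,0], [0,1,0,2,1], [0,2,1], [0,1,0,2,1,0],
  [1,0], [2,1,0,2,1], [1], [2,1,0,2,1,0], [2,1,0], [1,0,2,1,0],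
  [2,1], [1,0,2,1], [0,2,3], [0,3,0,2,3], [0,2,3,0], [0,3,0,2,3,0],
  [3], [2,3,0,2,3], [3,0], [2,3,0,2,3,0], [2,3], [3,0,2,3,0],
  [2,3,0], [3,0,2,3], [1,3], [3,1], [1,2,3,0,2,3,0], [1,2,3,0,2,3],
  [3,2,1,0,2,1], [3,2,1,0,2,1,0], [2,3,0,2,3,1,0,2,1], [2,3,1,3,1,0,2,1,3]]

/-- conjugators for involutions that centralise elements of order three -/
def WI : List (List ℕ) := [[3,0,8], [1,2,3,8], [8,2,3,8,1,8,1,3,8], [3,8,1,8,0,2,3,2,1,8], [1,2,3,1,2,8,1,2,3,1,8], [1,0,2,3,1,8],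
  [3,8,3,1,2,3,1,8], [3,8,0,1,0,2,3,1,8], [3,8,3,1,2,8,3,1,8], [8,1,8,3,2,8,3,1,8], [0,2,3,8,1,2,1,3,8], [1,2,3,2,1,8,2,3,1,8],
  [2,1,3,8,1,3,8,1,3,8], [], [0,8], [3,8], [2,3,8], [8,3,0,8],
  [3,2,1,8], [3,8,1,0,8], [0,2,3,0,8], [3,8,2,1,8], [3,1,8,1,8], [1,8,1,3,8],
  [3,0,2,3,0,8], [8,1,2,3,0,8], [2,8,2,3,0,8], [8,1,8,3,0,8], [8,1,2,3,1,8], [1,0,8,3,1,8],
  [3,0,8,3,1,8], [1,2,3,8,1,8], [3,0,8,1,3,8], [3,2,8,1,3,8], [2,3,1,2,3,8], [1,8,1,2,3,8],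
  [1,8,3,2,1,0,8], [2,1,0,2,3,0,8], [1,2,1,8,3,0,8], [1,8,1,8,3,0,8], [1,2,3,0,2,1,8], [0,1,0,2,3,1,8],
  [3,2,8,2,3,1,8], [8,1,0,8,3,1,8], [0,3,0,8,3,1,8], [0,2,1,8,3,1,8], [8,3,1,8,3,1,8], [2,3,2,8,3,1,8],
  [1,8,3,0,8,1,8], [1,0,2,3,8,1,8], [2,8,1,2,1,3,8], [0,3,0,8,1,3,8], [8,1,3,8,1,3,8], [3,0,8,1,2,3,8],
  [2,3,8,1,2,3,8], [1,0,8,3,2,1,0,8], [1,8,1,0,2,3,0,8], [1,8,3,1,2,3,0,8], [3,0,8,1,2,3,0,8], [0,8,1,0,8,3,0,8],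
  [1,0,2,3,0,2,1,8], [8,1,8,2,3,2,1,8], [0,3,2,8,3,2,1,8], [8,2,3,0,2,3,1,8], [2,8,3,1,2,3,1,8], [3,2,8,1,2,3,1,8],
  [8,0,1,8,2,3,1,8], [8,3,1,8,2,3,1,8], [2,8,1,8,2,3,1,8], [0,2,1,0,8,3,1,8], [2,8,1,0,8,3,1,8], [8,0,3,0,8,3,1,8],
  [8,0,2,1,8,3,1,8], [1,2,3,1,8,3,1,8], [8,2,3,1,8,3,1,8], [1,8,3,1,8,3,1,8], [3,8,3,1,8,3,1,8], [8,1,8,1,8,3,1,8],
  [2,3,8,1,8,3,1,8], [8,1,3,2,8,3,1,8], [3,8,1,3,8,3,1,8], [2,3,8,0,2,1,3,8], [3,2,8,1,2,1,3,8], [8,1,8,3,2,1,3,8],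
  [8,3,1,8,2,1,3,8], [1,8,3,1,8,1,3,8], [2,1,3,2,8,1,3,8], [3,2,8,1,0,2,3,0,8], [3,2,8,1,2,8,3,0,8], [8,1,8,2,3,0,2,1,8],
  [0,3,0,8,3,0,2,1,8], [2,3,8,1,2,3,2,1,8], [3,1,2,1,8,3,2,1,8], [8,1,3,8,1,2,3,1,8], [0,2,0,1,8,2,3,1,8], [1,2,3,1,8,2,3,1,8],
  [2,3,1,2,8,2,3,1,8], [1,8,1,3,0,8,3,1,8], [8,1,2,3,0,8,3,1,8], [3,8,2,3,0,8,3,1,8], [1,0,2,3,1,8,3,1,8], [1,3,2,8,1,8,3,1,8],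
  [2,3,8,1,2,3,8,1,8], [1,3,8,1,3,2,1,3,8], [1,2,3,1,8,2,1,3,8], [1,8,1,3,0,8,1,3,8], [1,3,2,1,3,8,1,3,8], [0,2,3,0,8,1,2,3,8],
  [8,2,3,2,8,1,2,3,8], [3,2,8,1,3,0,2,3,0,8], [3,8,3,1,2,3,0,2,1,8], [2,1,3,8,0,2,3,2,1,8], [0,3,2,1,8,2,3,2,1,8], [1,3,8,1,0,8,3,2,1,8],
  [3,8,1,8,1,8,3,2,1,8], [1,3,1,8,3,1,2,3,1,8], [3,8,1,8,3,1,2,3,1,8], [3,8,2,1,3,8,2,3,1,8], [1,8,3,2,1,0,8,3,1,8], [8,1,8,3,1,2,8,3,1,8],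
  [2,3,1,8,1,2,3,8,1,8], [3,8,2,1,3,2,8,1,3,8], [3,0,1,2,1,3,8,1,3,8], [2,3,8,1,3,8,1,2,3,8], [2,3,1,2,0,3,8,2,3,1,8]]

/-- the centraliser of the four-group -/
def sK : List (List ℕ × ℕ) := [([0,2], 3), ([6], 2), ([0,2,6,2,0], 2), ([7], 2),
  ([0,2,7,2,0], 2), ([4], 2), ([5], 2)]

/-- a Sylow 2-subgroup -/
def sT : List (List ℕ × ℕ) := [([0], 2), ([6], 2), ([0,2,6,2,0], 2), ([7], 2),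
  ([0,2,7,2,0], 2), ([4], 2), ([5], 2)]

/-- first elementary abelian group of order 16 -/
def sA : List (List ℕ × ℕ) := [([6], 2), ([0,2,6,2,0], 2), ([4], 2), ([5], 2)]

/-- second elementary abelian group of order 16 -/
def sB : List (List ℕ × ℕ) := [([7], 2), ([0,2,7,2,0], 2), ([4], 2), ([5], 2)]

/-- a Sylow 3-subgroup -/
def sS : List (List ℕ × ℕ) := [([1,2,3,8,1,8,3,0,2,0,1,0], 3), ([8,3,1,8,2,1,3,8,1,2,1], 3), ([3,8,3,1,0,2,1,3,8,3], 3), ([3,0,8,3,1,2,1,3,8,0,2,0,3,2,1,0,1,2], 3),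
  ([1,8,3,0,1,0,3,0], 3), ([1,0,2,1], 3)]

/-- relators -/
def RAH : List (List ℕ) := [[0,3,7,3], [0,4,0,4], [0,6,0,6], [0,7,0,7], [2,4,2,4], [3,4,3,4],
  [3,5,3,6], [4,5,4,5], [4,6,4,6], [4,7,4,7], [5,6,5,6], [5,7,5,7],
  [0,4,5,0,5], [2,4,5,2,5], [4,6,7,6,7], [0,2,0,2,0,2], [0,2,5,2,0,5], [0,3,0,3,0,7],
  [0,3,4,7,4,3], [0,3,5,7,5,3], [0,3,7,6,3,5], [2,3,2,3,2,3], [2,4,2,6,4,6], [2,4,2,7,4,7],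
  [0,3,4,6,7,6,3], [2,3,4,6,3,2,5], [2,5,2,6,4,5,6], [2,5,2,7,4,5,7], [4,5,6,7,6,7,5], [0,2,0,2,5,0,2,5],
  [0,2,3,2,3,2,7,3], [0,2,6,4,6,2,0,4], [0,2,6,5,6,2,0,5], [0,2,7,4,7,2,0,4], [0,2,7,5,7,2,0,5], [0,3,0,3,0,4,7,4],
  [0,3,0,3,0,5,7,5], [0,3,4,5,7,5,4,3], [0,3,5,0,7,0,5,3], [0,5,0,5,6,7,6,7], [0,5,0,5,7,6,7,6], [0,5,0,6,2,5,2,6],
  [0,5,0,7,2,5,2,7], [2,3,2,3,2,5,3,6], [2,3,4,3,2,6,4,6], [2,3,4,3,2,7,4,7], [2,5,2,5,6,7,6,7], [2,5,2,5,7,6,7,6],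
  [2,5,2,6,2,5,2,6], [2,5,2,6,7,5,6,7], [2,5,2,7,2,5,2,7], [2,6,2,6,2,6,2,6], [2,7,2,7,2,7,2,7]]

/-- relators -/
def RBH : List (List ℕ) := [[0,1,6,1], [0,4,0,4], [0,6,0,6], [0,7,0,7], [2,4,2,4], [1,4,1,4],
  [4,5,4,5], [4,6,4,6], [4,7,4,7], [5,6,5,6], [5,7,5,7], [0,4,5,0,5],
  [2,4,5,2,5], [1,4,5,1,7], [1,4,7,1,5], [4,6,7,6,7], [0,2,0,2,0,2], [0,2,5,2,0,5],
  [0,1,0,1,0,6], [0,1,4,6,4,1], [0,1,5,6,5,1], [0,1,7,1,0,5], [0,1,7,6,1,5], [2,1,2,1,2,1],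
  [2,1,7,1,2,5], [2,4,2,6,4,6], [2,4,2,7,4,7], [1,5,7,1,7,5], [0,1,4,5,6,1,7], [0,1,5,1,0,4,7],
  [2,1,5,1,7,2,4], [2,5,2,6,4,5,6], [2,5,2,7,4,5,7], [4,5,6,7,6,7,5], [0,2,0,2,5,0,2,5], [0,2,1,2,1,2,6,1],
  [0,2,6,4,6,2,0,4], [0,2,6,5,6,2,0,5], [0,2,7,4,7,2,0,4], [0,2,7,5,7,2,0,5], [0,1,0,1,0,4,6,4], [0,1,0,1,0,5,6,5],
  [0,1,0,5,1,0,6,7], [0,1,5,0,6,0,5,1], [0,1,5,1,5,0,7,5], [0,1,5,7,6,5,1,5], [0,5,0,5,1,5,1,7], [0,5,0,5,6,7,6,7],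
  [0,5,0,5,7,6,7,6], [0,5,0,6,2,5,2,6], [0,5,0,7,2,5,2,7], [2,1,2,1,5,2,1,7], [2,1,4,1,2,6,4,6], [2,1,4,1,2,7,4,7],
  [2,1,5,1,5,7,2,5], [2,1,7,1,2,6,5,6], [2,1,7,1,2,7,5,7], [2,5,2,5,1,5,1,7], [2,5,2,5,6,7,6,7], [2,5,2,5,7,6,7,6],
  [2,5,2,6,2,5,2,6], [2,5,2,6,7,5,6,7], [2,5,2,7,2,5,2,7], [2,6,2,6,2,6,2,6], [2,7,2,7,2,7,2,7]]

/-- words without fixed points -/
def FA : List (List ℕ × ℕ) := [([0,3,2,8,3], 3), ([2,3,2,3,8,3], 3), ([2,3,2,8,3,8], 3), ([2,3,8,3,8,3], 3),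
  ([0,2,8,3], 5), ([0,3,2,8], 5), ([0,2,3,2,3,8,3], 3), ([0,2,3,2,8,3,8], 3),
  ([0,2,3,8,2,3,8], 3), ([0,2,8,0,3,0,3], 3), ([0,3,2,3,8,3,8], 3), ([0,3,2,8,2,8,3], 3),
  ([0,2,3,8], 6), ([2,3,2,8], 6), ([2,3,8,3], 6), ([2,8,3,8], 6),
  ([0,2,0,3,8], 5), ([0,2,3,0,8], 5), ([0,2,3,8,2], 5), ([0,2,8,2,3], 5)]

/-- words without fixed points -/
def FB : List (List ℕ × ℕ) := [([1,8], 6), ([1,8,1,8], 3), ([0,1,8], 5), ([0,1,2,8,1], 3),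
  ([0,1,8,1,0,8], 3), ([0,8,1,8,1,8], 3), ([1,2,1,2,1,8], 3), ([1,2,1,8,1,8], 3),
  ([1,2,8,1,8,2], 3), ([0,1,2,8], 5), ([0,1,8,2], 5), ([0,1,0,1,0,2,8], 3),
  ([0,1,2,8,2,8,1], 3), ([0,1,2,8,1,0,8], 3), ([0,1,8,1,2,1,2], 3), ([0,1,8,1,8,1,8], 3),
  ([0,8,1,2,8,1,8], 3), ([0,1,0,8], 6), ([0,8,1,8], 6), ([0,2,1,2,8], 5)]

/-- action of the letter 8 -/
def CJ : List (List ℕ × List ℕ) := [([0,2], [0,2]), ([6], [6]), ([7], [2,7,2,7]), ([4], [5]),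
  ([5], [4]), ([0,2,6,2,0], [2,6,2]), ([0,2,7,2,0], [7])]

/-- relators -/
def RMH : List (List ℕ) := [[0,2,0,2,0,2], [1,2,1,2,1,2], [2,3,2,3,2,3], [0,1,0,1,0,1,0,1], [0,3,0,3,0,3,0,3], [1,3,1,3,1,3,1,3],
  [0,1,2,1,2,1,0,2,0,2], [0,1,0,1,3,0,3,1,3,0,1,3], [0,1,0,1,3,1,0,3,1,3,0,3], [0,1,0,3,1,3,0,1,0,3,1,3], [0,1,3,0,1,3,0,3,1,0,3,1], [0,1,3,0,1,3,1,0,1,3,0,3],
  [0,1,3,1,0,3,0,1,3,1,0,3], [0,1,3,2,1,3,0,3,1,2,3,1], [0,2,3,2,3,2,0,3,0,3,0,3], [1,2,3,2,3,2,1,3,1,3,1,3], [0,1,0,1,0,3,0,1,3,0,3,1,0,3], [0,1,0,1,0,3,2,1,3,0,3,1,2,3],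
  [0,1,0,1,3,1,3,0,1,0,3,1,3,1], [0,1,0,2,3,1,0,1,2,3,2,0,1,3], [0,1,0,3,0,1,3,0,1,0,3,0,1,3], [0,1,0,3,0,3,0,1,0,3,1,0,1,3], [0,1,2,1,3,0,3,1,2,0,3,0,1,3], [0,1,2,3,1,0,1,3,2,1,0,3,0,3],
  [0,1,3,0,2,1,2,3,0,3,1,2,0,3], [0,1,3,0,2,3,1,0,1,3,2,0,3,1], [0,1,3,0,3,1,0,2,1,3,0,3,1,2], [0,1,3,1,3,0,3,0,3,1,3,1,0,3]]

/-- relators -/
def RMA : List (List ℕ) := [[0,2,8,0,2,8], [0,8,0,8,0,8], [2,8,2,8,2,8], [3,8,3,8,3,8], [0,2,0,2,8,2,0,8], [0,2,3,8,3,8,3,0,2,8],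
  [0,3,8,3,8,3,0,8,0,8], [2,3,8,3,8,3,2,8,2,8], [0,2,0,3,8,3,8,3,0,8,2,8], [0,2,3,0,3,2,0,8,3,0,3,8], [0,2,3,0,3,8,0,2,3,0,3,8], [0,3,2,8,2,3,0,3,2,8,2,3],
  [0,3,2,8,2,3,0,3,8,2,8,3], [0,3,8,2,8,3,0,3,8,2,8,3], [2,3,8,2,3,8,2,3,8,2,3,8], [0,2,3,2,0,3,2,8,3,0,3,8,3], [0,2,3,2,0,3,2,8,3,0,8,3,8], [0,2,3,8,0,2,3,8,0,3,8,2,3],
  [0,3,2,3,0,3,2,8,3,0,3,8,3], [0,2,0,2,8,3,0,3,2,0,8,3,0,3], [0,2,0,2,8,3,0,3,8,0,2,3,0,3], [0,2,0,3,0,3,0,2,0,8,3,0,3,8], [0,2,0,3,0,3,2,8,2,3,0,3,0,8], [0,2,0,3,0,3,8,2,8,3,0,3,0,8],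
  [0,2,3,0,2,3,2,3,0,8,3,0,3,8], [0,2,3,0,3,0,8,0,2,3,0,3,8,2], [0,2,3,0,3,2,0,3,8,3,8,0,3,8], [0,2,3,0,3,2,8,0,8,3,0,3,0,8], [0,2,3,0,3,8,0,2,3,0,8,3,8,3], [0,2,3,0,3,8,0,3,2,3,2,0,3,8],
  [0,2,3,2,3,8,2,3,0,3,2,8,2,3], [0,2,3,8,3,8,3,0,2,3,8,3,8,3], [0,2,8,0,3,8,2,3,8,2,3,8,2,3], [0,2,8,2,3,0,3,2,8,2,0,3,0,3], [0,3,2,8,2,3,0,3,8,2,3,8,3,8], [0,3,8,2,3,2,3,2,8,3,0,8,0,8],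
  [2,3,2,3,8,3,2,8,3,2,8,3,2,8], [2,3,2,8,2,3,8,2,3,2,8,2,3,8]]

/-- relators -/
def RMB : List (List ℕ) := [[0,1,8,1,0,1,8,1], [0,1,0,1,0,8,1,0,1,8], [0,1,2,1,2,1,8,0,2,8], [1,2,8,1,8,1,2,8,1,8], [0,1,0,1,0,8,0,1,0,1,0,8], [0,1,0,1,2,8,0,2,1,0,1,8],
  [0,1,2,1,2,1,0,2,8,2,0,8], [0,1,2,8,2,8,2,1,0,1,8,1], [0,1,8,1,0,2,8,1,8,1,2,8], [0,1,8,1,2,8,1,8,1,0,8,2], [1,2,1,2,8,1,8,2,1,8,1,8], [1,2,1,8,1,2,1,8,1,2,1,8],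
  [1,2,1,8,1,2,1,8,2,1,2,8], [1,2,1,8,2,1,8,2,8,1,2,8], [1,2,8,1,2,8,1,2,8,1,2,8], [1,2,8,1,8,1,8,2,8,2,1,8], [1,2,8,2,1,2,8,2,1,8,2,8], [1,8,1,8,1,8,1,8,1,8,1,8],
  [0,1,0,1,2,8,2,0,2,0,1,0,1,8], [0,1,2,0,8,2,1,0,1,2,8,0,2,1], [0,1,2,1,2,1,8,0,1,2,1,2,1,8], [0,1,2,1,8,1,2,1,8,2,1,0,8,2], [0,1,2,1,8,1,8,2,1,8,0,1,8,1], [0,1,2,1,8,2,1,2,8,2,1,0,8,2],
  [0,1,2,8,1,2,1,8,2,1,0,2,0,8], [0,1,2,8,1,8,1,2,8,1,0,8,0,8], [0,1,2,8,2,1,2,8,2,1,0,2,0,8], [0,1,2,8,2,1,2,8,2,1,8,0,8,2], [0,1,8,1,0,2,1,8,1,2,1,8,1,2], [0,1,8,1,0,2,1,8,2,1,2,8,1,2],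
  [0,1,8,1,0,2,8,1,8,2,1,2,1,8], [0,1,8,1,0,8,1,8,1,8,1,8,1,8], [0,1,8,1,2,0,8,0,2,1,8,1,2,8], [0,1,8,1,2,8,1,8,1,8,0,2,0,8], [0,1,8,1,8,2,0,1,8,2,1,2,1,8], [0,1,8,1,8,2,1,8,1,8,0,2,0,2]]

/-- equations -/
def EQ : List (List ℕ × List ℕ) := [([0,5,0], [4,5]), ([4,5], [5,4]), ([0,2,0,2,0,2], []), ([6,7,6,7], [4]),
  ([6,0,2,7,2,0,6,0,2,7,2,0], [5]), ([0,8,0,2,8,0], [0,2]), ([0,8,6,8,0], [6]), ([0,8,7,8,0], [2,0,7,0,2]),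
  ([0,8,4,8,0], [4,5]), ([0,8,5,8,0], [4]), ([8,5,8], [4]), ([0,8,0,8,0,8], []),
  ([6,0,2,6,2,0,2,0,6,0,2], []), ([7,0,2,7,2,0,2,0,7,0,2], [])]

/-- inequations -/
def NE : List (List ℕ × List ℕ) := [([4], []), ([5], []), ([4], [5]), ([0,2], []),
  ([6,7], [7,6]), ([8,4], [4,8]), ([8,5], [5,8]), ([0,8,4], [4,0,8]),
  ([0,8,5], [5,0,8]), ([0,8,4,5], [4,5,0,8]), ([6], []), ([7], [])]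

/-- relators for the first normaliser -/
noncomputable def RelsA : List (List ℕ) := RAH ++ (CJ.map (fun p => 8 :: (p.1 ++ 8 :: p.2)) ++
  (FA.map (fun p => rep p.1 p.2) ++ [[0,8,0,8,0,8]]))

/-- relators for the second normaliser -/
noncomputable def RelsB : List (List ℕ) := RBH ++ (CJ.map (fun p => 8 :: (p.1 ++ 8 :: p.2)) ++
  (FB.map (fun p => rep p.1 p.2) ++ [[0,8,0,8,0,8]]))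

/-- relators for the whole group -/
def RelsM : List (List ℕ) := RMH ++ (RMA ++ RMB)

/-- generators of the whole group -/
def WM : List (List ℕ) := [[0],[1],[2],[3],[8]]

/-- generators of the centraliser -/
def WH : List (List ℕ) := [[0],[1],[2],[3]]

/-- The facts about the model. -/
structure Facts {M : Type*} [Group M] (g : ℕ → M) : Prop where
  sq : ∀ a, g a * g a = 1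
  big : ∀ a, 9 ≤ a → g a = 1
  alt : ∀ e ∈ altEqs WX [4], ev g e.1 = ev g e.2
  cardH : 40320 ≤ Nat.card (CE.gen g WX)
  memH : ∀ a < 8, g a ∈ CE.gen g WX
  cardM : Nat.card (CE.gen g WM) = 898128000
  cardT : Nat.card (CE.gen g (sT.map Prod.fst)) = 128
  invT : ∀ c ∈ CE.gen g (sT.map Prod.fst), c * c = 1 →
    ∃ w ∈ [] :: [4] :: WZ.map (cjw [5]), c = ev g w
  clsZ : 210 ≤ (cls (CE.gen g WH) (ev g [5])).ncard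
  cardK : Nat.card (CE.gen g (sK.map Prod.fst)) = 192
  KZ : ∀ w ∈ sK.map Prod.fst, ev g (w ++ [5]) = ev g (5 :: w)
  six : ∀ c ∈ CE.gen g (sK.map Prod.fst), c * c = 1 →
    c * (ev g [0,2] * c * ev g [2,0]) * (ev g [2,0] * c * ev g [0,2]) = 1 →
    ∃ w ∈ [[], [6], [0,2,6,2,0], [2,0,6,0,2], [7], [0,2,7,2,0], [2,0,7,0,2]], c = ev g w
  centK : ∀ c ∈ CE.gen g (sK.map Prod.fst), c * ev g [0,2] = ev g [0,2] * c →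
    c * ev g [6] = ev g [6] * c → c * ev g [7] = ev g [7] * c →
    ∃ w ∈ [[], [4], [5], [4,5]], c = ev g w
  centA : ∀ c ∈ CE.gen g (sK.map Prod.fst), c * ev g [6] = ev g [6] * c →
    c * ev g [0,2,6,2,0] = ev g [0,2,6,2,0] * c → c ∈ CE.gen g (sA.map Prod.fst)
  centB : ∀ c ∈ CE.gen g (sK.map Prod.fst), c * ev g [7] = ev g [7] * c →
    c * ev g [0,2,7,2,0] = ev g [0,2,7,2,0] * c → c ∈ CE.gen g (sB.map Prod.fst)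
  abA : ∀ a ∈ CE.gen g (sA.map Prod.fst), ∀ b ∈ CE.gen g (sA.map Prod.fst), a * b = b * a
  abB : ∀ a ∈ CE.gen g (sB.map Prod.fst), ∀ b ∈ CE.gen g (sB.map Prod.fst), a * b = b * a
  normK : ∀ a ∈ [0,8], ∀ k ∈ CE.gen g (sK.map Prod.fst),
    g a * k * (g a)⁻¹ ∈ CE.gen g (sK.map Prod.fst)
  normA : ∀ a ∈ [0,2,3,8], ∀ k ∈ CE.gen g (sA.map Prod.fst),
    g a * k * (g a)⁻¹ ∈ CE.gen g (sA.map Prod.fst)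
  normB : ∀ a ∈ [0,2,1,8], ∀ k ∈ CE.gen g (sB.map Prod.fst),
    g a * k * (g a)⁻¹ ∈ CE.gen g (sB.map Prod.fst)
  fpfA : ∀ w ∈ FA.map Prod.fst, ∀ c ∈ CE.gen g (sA.map Prod.fst), ev g w * c = c * ev g w → c = 1
  fpfB : ∀ w ∈ FB.map Prod.fst, ∀ c ∈ CE.gen g (sB.map Prod.fst), ev g w * c = c * ev g w → c = 1
  clsA : 15 ≤ (cls (CE.gen g [[0],[2],[3],[8]]) (ev g [4])).ncard
  clsB : 15 ≤ (cls (CE.gen g [[0],[2],[1],[8]]) (ev g [4])).ncard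
  eqs : ∀ e ∈ EQ, ev g e.1 = ev g e.2
  nes : ∀ e ∈ NE, ev g e.1 ≠ ev g e.2
  relsA : ∀ r ∈ RelsA, ev g r = 1
  relsB : ∀ r ∈ RelsB, ev g r = 1
  relsM : ∀ r ∈ RelsM, ev g r = 1
  cardS : Nat.card (CE.gen g (sS.map Prod.fst)) = 729
  three : ∀ c ∈ CE.gen g (sS.map Prod.fst), c ^ 3 = 1 →
    ∃ w ∈ WI.map (cjw [4]), ev g w * c = c * ev g w

end CL.Rec.McL
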