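/- Recognition of the third Conway group: words, relators and the facts about the model.
The letters 0..8 are those of the McLaughlin group; 9 lies in the third elementary abelian group of
order 16 above the four-group generated by 4, 5. -/
import Cfsg.Agent.REC.McLDef
import Cfsg.Agent.REC.Amal2

set_option autoImplicit false

namespace CL.Rec.Co3

open CL.K CL.CG CL.CE CL.A10

/-- an element of order three that permutes the three elementary abelian groups -/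
def wd : List ℕ := [3,9,3,2,7,2,3,1,2,6,2,9,1,9]

/-- an element of order 23 -/
def wb : List ℕ := [1,2,3,8,9]

/-- the central involution -/
def w4 : List ℕ := [0,1,0,3,0,1,0,3]

/-- conjugators for the squares in the Sylow 2-subgroup -/
def WZ : List (List ℕ) := [[], [1], [3,0], [9,3,0], [1,9,2,7,6,2,3,1], [9,1],
  [9,3], [3,1,9,3,1], [1,0], [1,2,7,9,6,2,3,1], [9,1,0], [0],
  [1,3,9,3,1], [3]]

/-- square roots of the central involution -/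
def WS : List (List ℕ) := [[0,6,7,9,0,9], [0,2,6,7,2,0,9], [0,5,9,0,2,6,7,2], [0,5], [0,5,6], [5,9,0,9],
  [6,9,0,9]]

/-- the centraliser of the four-group -/
def sK : List (List ℕ × ℕ) := [([1,2,6,2,9,1], 2), ([3,9,3,2,7,2,3,1,2,6,2,9,1,9], 3), ([0,2], 3), ([9], 2),
  ([0,2,9,2,0], 2), ([6], 2), ([0,2,6,2,0], 2), ([7], 2),
  ([0,2,7,2,0], 2), ([4], 2), ([5], 2)]

/-- a Sylow 2-subgroup -/
def sT : List (List ℕ × ℕ) := [([0], 2), ([1,2,6,2,9,1], 2), ([9], 2), ([0,2,9,2,0], 2),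
  ([6], 2), ([0,2,6,2,0], 2), ([7], 2), ([0,2,7,2,0], 2),
  ([4], 2), ([5], 2)]

/-- a Sylow 3-subgroup of the centraliser of the four-group -/
def sD : List (List ℕ × ℕ) := [([3,9,3,2,7,2,3,1,2,6,2,9,1,9], 3), ([0,2], 3)]

/-- relators -/
def R1 : List (List ℕ) := [[0,4,0,4], [0,6,0,6], [0,7,0,7], [2,4,2,4], [4,5,4,5], [5,6,5,6],
  [0,4,5,0,5], [2,4,5,2,5], [4,6,7,6,7], [0,2,0,2,0,2], [0,2,0,6,2,0,6,2,6], [0,2,0,7,2,0,7,2,7],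
  [2,5,7,2,6,2,7,2,6]]

/-- relators -/
def R2 : List (List ℕ) := [[0,6,0,6], [0,7,0,7], [0,3,7,3], [0,1,6,1], [4,6,4,6], [4,7,4,7],
  [5,3,6,3], [0,4,5,0,5], [2,4,5,2,5], [0,2,0,2,0,2], [2,3,2,3,2,3], [2,1,2,1,2,1],
  [0,5,6,3,1,3,1,7]]

/-- relators -/
def R3 : List (List ℕ) := [[0,2,0,2,0,2], [1,2,1,2,1,2], [1,9,1,9,1,9], [2,3,2,3,2,3], [3,9,3,9,3,9], [0,2,0,9,0,2,9,0,9],
  [0,1,0,1,3,9,3,0,3,9,3], [0,1,3,1,0,3,9,1,0,1,9], [0,1,3,2,1,3,0,3,1,2,3,1]]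

/-- relators -/
def RTH : List (List ℕ) := [[2,9,2,9], [0,2,0,2,0,2], [1,2,1,2,1,2], [1,9,1,9,1,9], [2,3,2,3,2,3], [3,9,3,9,3,9],
  [0,2,0,9,0,2,9,0,9], [0,1,3,1,0,3,9,1,0,1,9], [0,1,9,1,0,1,9,1,3,0,3], [0,1,3,0,1,3,0,3,1,0,3,1], [0,1,3,2,1,3,0,3,1,2,3,1], [1,3,1,9,1,3,9,1,9,3,1,9]]

/-- relators -/
def RTM : List (List ℕ) := [[0,2,8,0,2,8], [3,8,3,8,3,8], [0,1,8,1,0,1,8,1], [0,1,8,1,0,2,8,1,8,1,2,8]]

/-- equations -/
def EQ : List (List ℕ × List ℕ) := [([0,4], [4,0]), ([1,4], [4,1]), ([2,4], [4,2]), ([3,4], [4,3]),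
  ([9,4], [4,9]), ([3,9,3,2,7,2,3,1,2,6,2,9,1,9,0,2,9,1,9,2,6,2,1,3,2,7,2,3,9,3], [0,2]), ([3,9,3,2,7,2,3,1,2,6,2,9,1,9,6,9,1,9,2,6,2,1,3,2,7,2,3,9,3], [7]), ([3,9,3,2,7,2,3,1,2,6,2,9,1,9,9,9,1,9,2,6,2,1,3,2,7,2,3,9,3], [0,2,6,2,0]),
  ([9,0,2,9,2,0,2,0,9,0,2], []), ([6,0,2,6,2,0], [0,2,6,2,0,6]), ([7,0,2,7,2,0], [0,2,7,2,0,7]), ([9,0,2,9,2,0], [0,2,9,2,0,9]),
  ([4], [0,1,0,3,0,1,0,3])]

/-- inequations -/
def NE : List (List ℕ × List ℕ) := [([6,9], [9,6]), ([7,9], [9,7]), ([9], []), ([1,2,3,8,9], [])]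

/-- relators for the centraliser -/
def RelsH : List (List ℕ) := R1 ++ (R2 ++ R3)

/-- words without fixed points -/
def FA : List (List ℕ × ℕ) := [([0,2,0,8,9], 3)]

/-- words without fixed points -/
def FB : List (List ℕ × ℕ) := [([0,8,9], 3)]

/-- relators for the whole group -/
noncomputable def RelsT : List (List ℕ) := RTH ++ (RTM ++
  (FA.map (fun p => rep p.1 p.2) ++ FB.map (fun p => rep p.1 p.2)))

/-- generators of the whole group -/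
def WT : List (List ℕ) := [[0],[1],[2],[3],[8],[9]]

/-- generators of the centraliser -/
def WC : List (List ℕ) := [[0],[1],[2],[3],[9]]

/-- the letters in the centraliser -/
def SC : List ℕ := [0,1,2,3,4,5,6,7,9]

/-- The facts about the model. -/
structure Facts {M : Type*} [Group M] (g : ℕ → M) : Prop where
  sq : ∀ a, g a * g a = 1
  cardH : 2903040 ≤ Nat.card (CE.gen g WC)
  memH : ∀ a < 8, g a ∈ CE.gen g McL.WH
  cardM : Nat.card (CE.gen g McL.WM) = 898128000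
  cardG : Nat.card (CE.gen g WT) = 495766656000
  cardT : Nat.card (CE.gen g (sT.map Prod.fst)) = 1024
  rootT : ∀ c ∈ CE.gen g (sT.map Prod.fst), c * c = 1 → ∃ w ∈ WS, ev g w * c = c * ev g w
  root : ∀ w ∈ WS, ev g (w ++ w) = ev g [4]
  sqT : ∀ r ∈ CE.gen g (sT.map Prod.fst), r * r * (r * r) = 1 →
    ∃ w ∈ [] :: [4] :: WZ.map (cjw [5]), r * r = ev g w
  clsZ : 630 ≤ (cls (CE.gen g WC) (ev g [5])).ncard
  cardK : Nat.card (CE.gen g (sK.map Prod.fst)) = 4608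
  KZ : ∀ w ∈ sK.map Prod.fst, ev g (w ++ [5]) = ev g (5 :: w)
  cardD : Nat.card (CE.gen g (sD.map Prod.fst)) = 9
  fourD : ∀ c ∈ CE.gen g (sD.map Prod.fst), c ≠ 1 → c ≠ ev g [0,2] → c ≠ ev g [2,0] →
    ∃ r ∈ CE.gen g (sK.map Prod.fst), r * r * (r * r) = 1 ∧ r * r ≠ 1 ∧ r * c = c * r
  fourX : ∀ r ∈ CE.gen g (sK.map Prod.fst), r * ev g [0,2] = ev g [0,2] * r →
    r * r * (r * r) = 1 → r * r = 1
  sqK : ∀ a ∈ [6,7,9], ∃ r ∈ CE.gen g (sK.map Prod.fst), r * r = g a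
  nine : ∀ r ∈ CE.gen g (sK.map Prod.fst), r * r * (r * r) = 1 →
    r * r * (ev g [0,2] * (r * r) * ev g [2,0]) * (ev g [2,0] * (r * r) * ev g [0,2]) = 1 →
    ∃ w ∈ [[], [6], [0,2,6,2,0], [2,0,6,0,2], [7], [0,2,7,2,0], [2,0,7,0,2], [9], [0,2,9,2,0],
      [2,0,9,0,2]], r * r = ev g w
  centK : ∀ c ∈ CE.gen g (sK.map Prod.fst), c * ev g [0,2] = ev g [0,2] * c →
    c * ev g [6] = ev g [6] * c → c * ev g [7] = ev g [7] * c →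
    ∃ w ∈ [[], [4], [5], [4,5]], c = ev g w
  centA : ∀ c ∈ CE.gen g (sK.map Prod.fst), c * ev g [6] = ev g [6] * c →
    c * ev g [0,2,6,2,0] = ev g [0,2,6,2,0] * c → c ∈ CE.gen g (McL.sA.map Prod.fst)
  centB : ∀ c ∈ CE.gen g (sK.map Prod.fst), c * ev g [7] = ev g [7] * c →
    c * ev g [0,2,7,2,0] = ev g [0,2,7,2,0] * c → c ∈ CE.gen g (McL.sB.map Prod.fst)
  normK : ∀ a ∈ [0,8], ∀ k ∈ CE.gen g (McL.sK.map Prod.fst),
    g a * k * (g a)⁻¹ ∈ CE.gen g (McL.sK.map Prod.fst)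
  normA : ∀ a ∈ [0,2,3,8,9], ∀ k ∈ CE.gen g (McL.sA.map Prod.fst),
    g a * k * (g a)⁻¹ ∈ CE.gen g (McL.sA.map Prod.fst)
  normB : ∀ a ∈ [0,2,1,8,9], ∀ k ∈ CE.gen g (McL.sB.map Prod.fst),
    g a * k * (g a)⁻¹ ∈ CE.gen g (McL.sB.map Prod.fst)
  fpfA : ∀ w ∈ (McL.FA ++ FA).map Prod.fst, ∀ c ∈ CE.gen g (McL.sA.map Prod.fst),
    ev g w * c = c * ev g w → c = 1
  fpfB : ∀ w ∈ (McL.FB ++ FB).map Prod.fst, ∀ c ∈ CE.gen g (McL.sB.map Prod.fst),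
    ev g w * c = c * ev g w → c = 1
  clsA : 15 ≤ (cls (CE.gen g [[0],[2],[3],[8]]) (ev g [4])).ncard
  clsB : 15 ≤ (cls (CE.gen g [[0],[2],[1],[8]]) (ev g [4])).ncard
  eqs : ∀ e ∈ McL.EQ ++ EQ, ev g e.1 = ev g e.2
  nes : ∀ e ∈ McL.NE ++ NE, ev g e.1 ≠ ev g e.2
  relsA : ∀ r ∈ McL.RelsA, ev g r = 1
  relsB : ∀ r ∈ McL.RelsB, ev g r = 1
  relsM : ∀ r ∈ McL.RelsM, ev g r = 1
  relsH : ∀ r ∈ RelsH, ev g r = 1
  relsT : ∀ r ∈ RelsT, ev g r = 1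
  b23 : ev g wb ^ 23 = 1
  fix : ∀ a ∈ CE.gen g WT, a ^ 5 = 1 → a * ev g wb = ev g wb * a → a = 1

/-- The facts about the symplectic group. -/
structure SpFacts {N : Type*} [Group N] (m : ℕ → N) : Prop where
  sq : ∀ a, m a * m a = 1
  rels : ∀ r ∈ w4 :: RelsH, ev m r = 1
  equiv : Nonempty (CE.gen m WC ≃* Sp6)

end CL.Rec.Co3
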