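/- Recognition of the third Conway group: the model (generated data, checked by the kernel). -/
import Cfsg.Agent.REC.Co3Def
import Cfsg.Agent.REC.McLData

set_option autoImplicit false
set_option maxRecDepth 100000
set_option maxHeartbeats 400000

namespace CL.Rec.Co3

open Cfsg CL.K CL.CG CL.CE CL.A10 CL.Leech CL.F2M MulAction

/-- the new letter as a lattice automorphism and modulo two -/
def P9 : ℕ × ℕ := (nat_lit 0x621084210a5210a429486290852148431084210a3218a428c841908520c8421884210a52106418cc42908520c84210c421065210a419484190c520c8421086210653106428c84190852148421084310a3210641948419085214c421084218a5210a418c841908331485294632948428c852106320ca419065194a519484194852106320c64190a421086210a3310a4194842908320c8431084210652186419484290832148528ca31948428c83210a321464190a421084210a521066294841988320c8528c6518c8418c85210a320ca4290a518ca328c8429485210a320c64290642188421063210a4294c4190832148621084210632106418c861908320c851946318c842948321063214a4290a42108421063210a618c842988521484210c4210a32106428c84290c321485294a528c8418c83210632146429064210842186321064294842908530c8518c652948419483210a3214a4190642108431065210a428c842908320cc,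
   nat_lit 0x91441248e095460b9d1b583af1227bdbebfb9671dc0a583a94f1dc6000204924b1c77945984c627a58080a7c03be8ce2ff694663f8cf0eab088e6de44dd192ca7ac69471deff69c7)

/-- the codes of the letters -/
def L : List ℕ := McL.L ++ [P9.2]

theorem hLM : ∀ c ∈ L, Mem gcode ((stabilizer Co0 W0).map rho) c := fun c hc => by
  rcases List.mem_append.1 hc with hc | hc
  · exact (McL.hLM c hc).mono (Subgroup.map_mono inf_le_left)
  · exact List.mem_singleton.1 hc ▸ mem_Co3 (by decide +kernel)

theorem hL : ∀ c ∈ L, Mem (gcode : GL24 → ℕ) ⊤ c := fun c hc => (hLM c hc).top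

/-- the letters -/
noncomputable abbrev g : ℕ → GL24 := lt gcode L

theorem sq : ∀ a, g a * g a = 1 := lt_sq C24 hL (by decide +kernel)

theorem g_eq {a : ℕ} (ha : a < 9) : g a = McL.g a := by
  rw [g, McL.g, lt_eq (ha.trans (by decide)), lt_eq ha,
    (by decide +kernel : ∀ a < 9, lget L a = lget McL.L a) a ha]

/-- strong generators -/
def SH : List (List ℕ) := [[9], [0], [1], [2], [3], [3,2],
  [0,1,0,1,3], [2,0,1,3,1,2,3,0,3]]

/-- the letters in the generators -/
def WB : List (List ℕ) := [[0], [1], [2], [3], [0,1,0,3,0,1,0,3], [3,1,0,1,3],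
  [1,0,1], [3,0,3]]

/-- elements of order four -/
def WF : List (List ℕ) := [[7,2,9,6,2], [6,2,7,2,9], [6,9,0,7,9,0]]

/-- square roots -/
def WR : List (List ℕ) := [[3,0,2,7,2,9,0,3], [6,1,2,6,2,9,1,6], [3,2,6,9,7,2,3,0,2,0,1,9,3,2,6,7,2,1,9,3]]

/-- strong generators -/
def SS : List (List ℕ) := [[0], [1], [2], [3], [9], [1,2,3,2,9,1,3,0,2,0,3,9,3],
  [0,2,0,1,9,1,3], [1,9,1,0,2,0,3,1,9,1], [3,9,1,0,2,1,3,2,9,1,0,2,3,1], [3,9,0,3,2,9,3,0,9], [0,3,2,9,3,2,1,3,0,2,1,3,1,9], [1,2,3,9,3,1,2,0,3,2,1,0,9,3],
  [9,0,1,0,2,3,2,0,1,9], [2,0,1,0,2,3,2,0,1,2], [1,2,0,1,3,2,0,3,2,9,0,1,3,2]]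

theorem le_cardG : 495766656000 ≤ Nat.card (CE.gen g WT) :=
  le_card_of_chain A24 C24 hL (ws := [9] :: McL.SM) (P := 38099)
    (B := [(13403652, 552), (14037921, 275), (14055712, 162), (2783266, 105), (11156140, 64), (12480557, 3)])
    (by decide +kernel) fun w hw => ev_mem fun a ha => mem_gen_letter
      ((by decide +kernel : ∀ w ∈ [9] :: McL.SM, ∀ a ∈ w, [a] ∈ WT) w hw a ha)

theorem equivG : CE.gen g WT = (stabilizer Co0 W0).map rho ∧
    Nonempty (CE.gen g WT ≃* stabilizer Co0 W0) := by
  rw [gen_words C24 hL]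
  refine gen_equiv (fun c hc => ?_)
    (by rw [← gen_words C24 hL, card_stab_48 sqNorm_W0]; exact le_cardG)
  obtain ⟨w, -, rfl⟩ := List.mem_map.1 hc
  exact mem_ev C24 hL (ev_mem fun a _ => lt_mem C24 hLM a)

theorem cardH : 2903040 ≤ Nat.card (CE.gen g WC) :=
  le_card_of_chain A24 C24 hL (ws := SH) (P := 38099)
    (B := [(13403652, 72), (14037921, 240), (14055712, 56), (2783266, 3)])
    (by decide +kernel) fun w hw => ev_mem fun a ha => mem_gen_letter
      ((by decide +kernel : ∀ w ∈ SH, ∀ a ∈ w, [a] ∈ WC) w hw a ha)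

theorem pcK : pcOK mm c1 L id 2654228 sK = true := by decide +kernel
theorem pcT : pcOK mm c1 L id 131116 sT = true := by decide +kernel
theorem pcD : pcOK mm c1 L id 19 sD = true := by decide +kernel
theorem pcA : pcOK mm c1 L id 58 McL.sA = true := by decide +kernel
theorem pcB' : pcOK mm c1 L id 55 McL.sB = true := by decide +kernel

/-- the code of `b ^ n • r` -/
noncomputable def itc (b r n : ℕ) : ℕ :=
  Nat.rec (motive := fun _ => ℕ) r (fun _ v => force v (ac b)) n

theorem itc_eq (b : GL24) (v : Fin 24 → ZMod 2) (n : ℕ) :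
    itc (gcode b) (vcode v) n = vcode (b ^ n • v) := by
  induction n with
  | zero => rw [pow_zero, one_smul]; rfl
  | succ n ih =>
    change force (itc _ _ n) (ac _) = _
    rw [force_eq, ih, pow_succ', mul_smul]
    exact ok24.act_gcode _ _

theorem eq_one_of_fix {a : GL24} {v : Fin 24 → Fin 24 → ZMod 2} (h : ∀ j, a • v j = v j)
    {f : ℕ → ℕ} (hf : ∀ j, vcode (v j) = f j) {c : ℕ} (hc : mm (cols 24 f) c = c1) : a = 1 := by
  have h1 : mcode (Matrix.of fun i j => v j i) = cols 24 f :=
    mcode_eq_cols fun j => by rw [Matrix.mulVec_single_one]; exact hf j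
  have h2 := ok24.mdec_mulC (cols 24 f) c
  rw [show mulC 24 CM24 16777215 (cols 24 f) c = mcode (1 : GL24).1 from hc.trans C24.map_one.symm,
    ← h1, mdec_mcode, mdec_mcode] at h2
  have h3 : a.1 * (Matrix.of fun i j => v j i) = Matrix.of fun i j => v j i := by
    ext i j; exact congrFun (h j) i
  exact Units.ext (by rw [← mul_one a.1, ← Units.val_one, h2, ← mul_assoc, h3])

theorem hac (a : GL24) (v : Fin 24 → ZMod 2) : ac (gcode a) (vcode v) = vcode (a • v) :=
  ok24.act_gcode a v

/-- orbit representatives and inverse matrices -/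
def reps : List (ℕ × ℕ) := [(130, nat_lit 0xd6553a5f5953f7218251b4de1a08a7309a2022093c92dd3c2cb28bd407b7e2bcb0f7242ad4bd0b23f56b02dd7c4927223f2dadb14d6eab65962e0a8f588eb4172c643f2dacaf539a),
  (3339, nat_lit 0xd699a02601c6cfb49844e82579bde832b8ee4b4580c636dc575123c5e612ff946dc7fbc5fda9b850b9f72dcf1e1e3e3933af83810e3f8019d65b924a240bb23de432766282e14747),
  (4096, nat_lit 0xe015fe56e71bcfbbcede52fb9ec302a2ad351fdc69ef5b10dc18e3c07cac216d3300000195b4081f2d4a11ed56f2c2f988bfd98cca50c1eacde16d32ba22ad1e3a416a74655a51f3),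
  (12304, nat_lit 0xc02bfd2dce379f779d3ca5f73d8604455a6a3fb8d2deb6213831c780f959c2da66800002ab68103e5a9423daac6585f3117fb29994a083d59b42da6574455a3c748254e8cbb4a3e7),
  (15550, nat_lit 0xb4bdba5f6384c23b6b571b3c25f7072356a66401d4f813453f8facc1c6cce1fbd9ef66d5e221a737db2f0ab39e4c30f37d9a6ef2c8ef9f5f54792e6602158575ecc637759ad028c7),
  (34002, nat_lit 0xb2a9d57aca9db90c178da6f5d0453984d1031049e296e9e1e5945aa03dbd15e586392157a5e85d1fab5a16ebe0c93914f96d6b8a6b73db2cb2f0547ac475a5396321796d637a9cd2),
  (51378, nat_lit 0xfc24ae019c0b87be6482bc8af0483a94815d4972e69d8ce3f00d04cef9057fa4387b1440a9876e4ed1f67ea5d48a4c8bf9dc8acafd17cf750cb93a58902a857274b818e0b0650735),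
  (56578, nat_lit 0xb4cd05300e32fda4c4a7412ccdef4795c7735a2c04b1b6e4ba891daf30947ca36f3fde2ced4dc705cfbd6e78f2f1f1c99d7c1b8871f880ceb0dc9255a05d926f21933314170a3a3e),
  (68496, nat_lit 0x95df09016067cc81ef1140af075c122ba5205cd25c9c6763209c03a0b3be871fe9881ec5edca613ed3b43a9fa9116293115e77a2f2bfa193dd4b0e4e50a40a171c9d160638e6b941),
  (110096, nat_lit 0xf4d2f6097d8ed708edf95c6c8e97dccc8d5a2990078be04dd8fe3e99071b3387ef2bbd9bcf88865edf6c3c2acee730c3ddf669dfcb23a87d7dcde4b98a08560dd7b334ddd60f40a3),
  (124685, nat_lit 0xba82b714e0cbac4cd7209c334177320ee9ea691fe9c9e69a3aa3eaeb5293eb4d60f2a034a356291854c167e88934f7a16c1659a03465889ae920bd4e73d4444d9095270bef8655ba),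
  (163840, nat_lit 0xba88b860ca84a69e9520dc682a1f1067dbe727c767f96db427c766863f3a93ed95de20bf8aa0334d33902ae5d43c23d20dad38dd84b0bc3fb122dd755bb1d4092e1d41850dcee854),
  (267428, nat_lit 0xc3275703504e8acc777695885a70f97516437e5754b22bef58af39840100b74e99845e92d078eb7113461684a8477cc054e0f1ae189ae9690a313f4229e6ec3dd26d1b95f6fff5f5),
  (268276, nat_lit 0x8d33197d9723f63501f7a354d6bd23c4519f76e84ff50d698b651ead0fb87c5c9613950cc104dc11a63076fb50d31810cc812bcad51b8da626e6031ccd32870e70e85804b16483f4),
  (279178, nat_lit 0x93abc3282703e63b8acac476b87cda8b21f52baa7e95f7b2d79cd8808004274cb72f4904bc75d009a371425416be6047f078d48c4d2eb485699fa131f376296936bd4afb1b7afaff),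
  (290872, nat_lit 0xb4cc64765c8fd8d4075e8d535af48e11467e5ba13fd435a72d9478b43ee1f1725bce54308413724698c05bed434c60423204aeab546eb69898180c7334ca1e39c3a06012c6920fd3),
  (315420, nat_lit 0xf8f1e35bd1bac2067b0000805e67681590d82b68989156f063ef309a5fe3bea4978b5f95f5f7a026d2df1da5f97b5d7e17fb6cf2bf79caa56d7054c804492a13627d6f34c7ee19ef),
  (602238, nat_lit 0x8addd4032ca7b35d62f0cd04dcca0ba7a8777fa7489a6a4f8fa9d5ca4f5a35835a00d395d8a51a5304c222273fde85a7d96760d19501eba444f53905d1139e42566c2fbd3856e832),
  (1093822, nat_lit 0xb8f2351d2ebec870fee6adf6812c80fd8e2365a202a92c2d87b163ca70843d95741fc355d41c6a5efc4f0b73e19c159d8206c39231929c0105edb78b9c92982864d9040cb909b605),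
  (1164452, nat_lit 0x9e3f1e1bab7ae7b840880000f68bcc8d82b209856def022af30c7dfe334b4977d479516bfa0ebe2df4da5f93b4d7ef6bb6c2fff79e57d6d954cc8e0a92a08927d26c4c7de61efdc3),
  (1493971, nat_lit 0xeae3c87c74bafd21c36d9ab70004b247f638059688daa4b0461ec58929c2e8f655aa7f0dd550711f7bf1422dcf3a705606081ba448c68a700417b6de30724a32a1937210328a26d8),
  (1792058, nat_lit 0xa22e1d32a130a7a553b71a1087c415f6f9f371d9d3db6d3cf1d9938fce837b6549082fefa80cc54ce42639751588f49eeb4e06e12c2e8fec5eb75d51ec752d4b87446143603a1527)]

/-- the orbits of the vectors `R` -/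
noncomputable def orbs (R : List ℕ) : List ℕ :=
  R.flatMap fun r => (List.range 23).map (itc (evC mm c1 L wb) r)

/-- a sum of images -/
noncomputable def qc (b r : ℕ) : ℕ := ([0,1,2,3,4,7,10,12].map (itc b r)).foldr Nat.xor 0

theorem qc_eq (b : GL24) (v : Fin 24 → ZMod 2) :
    qc (gcode b) (vcode v) = vcode ([0,1,2,3,4,7,10,12].map fun i => b ^ i • v).sum := by
  simp only [qc, List.map, List.foldr, List.sum_cons, List.sum_nil, itc_eq, vcode_add, vcode_zero]
  rfl

attribute [local irreducible] pcE mm evC lt ac itc qc orbs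

theorem fix {a b : GL24} (e0 : gcode b = evC mm c1 L wb) (ha : a ∈ CE.gen g WT) (h : a ^ 5 = 1)
    (hb : a * b = b * a) : a = 1 := by
  have c := smul_pow_comm (G := GL24) (a := a) (b := b) (Y := Fin 24 → ZMod 2) hb
  have h2 := smul_mem C24 hL sq hac (X := [15306806]) (S := [0,1,2,3,8,9]) (by decide)
    (by decide +kernel) ha (vdec 24 15306806) (by decide +kernel)
  rw [List.mem_singleton, vcode_eq_iff (by norm_num)] at h2
  have h3 := smul_mem C24 hL sq hac (X := orbs (reps.map Prod.fst) ++ orbs [28117, 53063])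
    (S := [0,1,2,3,8,9]) (by decide) (by decide +kernel) ha
  have q1 := lall_iff.1 (by decide +kernel : lall (fun c => blt c 16777216 &&
    !Nat.beq (force (evC mm c1 L wb) fun b => qc b c) 0) (orbs (reps.map Prod.fst)) = true)
  have q2 := lall_iff.1 (by decide +kernel : lall (fun c =>
    Nat.beq (force (evC mm c1 L wb) fun b => qc b c) 0) (orbs [28117, 53063]) = true)
  simp only [force_eq, Bool.and_eq_true, Bool.not_eq_true', ← e0] at q1 q2
  obtain ⟨v, h3, h1⟩ := exists_fixed (by norm_num) h
    (S := {v : Fin 24 → ZMod 2 | vcode v ∈ orbs (reps.map Prod.fst)})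
    (fun v hv => (List.mem_append.1 (h3 v (List.mem_append_left _ hv))).resolve_right fun e => by
      have e1 := eq_of_beq (q2 _ e)
      have e2 := ne_of_beq (q1 _ hv).2
      rw [qc_eq, ← vcode_zero (n := 24), vcode_injective.eq_iff] at e1
      rw [qc_eq, ← vcode_zero (n := 24), vcode_injective.ne_iff] at e2
      refine e2 ((smul_eq_zero_iff_eq a).1 ?_)
      simpa only [List.smul_sum, List.map_map, Function.comp_def, c] using e1) (by
      rw [← Set.ncard_image_of_injective _ vcode_injective,
        show vcode '' _ = ↑(orbs (reps.map Prod.fst)).toFinset from Set.ext fun x =>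
          ⟨fun ⟨_, h, e⟩ => List.mem_toFinset.2 (e ▸ h), fun h => by
            have h := List.mem_toFinset.1 h
            have e := vcode_vdec (n := 24) (lt_of_blt (q1 _ h).1)
            exact ⟨_, show vcode (vdec 24 x) ∈ _ by rwa [e], e⟩⟩, Set.ncard_coe_finset, List.toFinset_card_of_nodup
          (distinctOn_spec (f := fun c => Nat.mod c 38099) (S := 0) (by decide +kernel)).1.of_map]
      decide +kernel)
  rw [Set.mem_ofPred_eq, orbs] at h3
  obtain ⟨_, hp', h4⟩ := List.mem_flatMap.1 h3
  obtain ⟨p, hp, rfl⟩ := List.mem_map.1 hp'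
  obtain ⟨i, -, h5⟩ := List.mem_map.1 h4
  have h6 := lall_iff.1 (by decide +kernel : lall (fun p => blt p.1 16777216 &&
    force (evC mm c1 L wb) fun b => Nat.beq (mm (cols 24 fun j => Bool.rec (motive := fun _ => ℕ)
      15306806 (itc b p.1 j) (blt j 23)) p.2) c1) reps = true) p hp
  rw [Bool.and_eq_true, force_eq, Nat.beq_eq, ← e0] at h6
  have h7 := vcode_vdec (n := 24) (lt_of_blt h6.1)
  rw [← e0, ← h7, itc_eq] at h5
  rw [← vcode_injective h5, c, smul_left_cancel_iff] at h1
  refine eq_one_of_fix (v := fun j => if j.1 < 23 then b ^ j.1 • vdec 24 p.1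
    else vdec 24 15306806) (fun j => ?_) (fun j => ?_) h6.2
  · split_ifs
    · rw [c, h1]
    · exact h2
  · split_ifs with hj
    · rw [← itc_eq, h7, show blt j 23 = true from Nat.ble_eq_true_of_le hj]
    · rw [show blt j 23 = false from Bool.eq_false_iff.2 fun e => hj (lt_of_blt e)]
      exact vcode_vdec (by norm_num)

theorem facts : Facts g where
  sq := sq
  cardH := cardH
  memH := mem_gen_of_eqs (vs := WB) (ev_eq_of_eqsB C24 hL (by decide +kernel))
  cardM := by
    rw [← McL.facts.cardM, gen_congr fun w hw a ha =>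
      g_eq ((by decide : ∀ w ∈ McL.WM, ∀ a ∈ w, a < 9) w hw a ha)]
  cardG := by rw [Nat.card_congr equivG.2.some.toEquiv, card_stab_48 sqNorm_W0]
  cardT := (pcOK_spec C24 hL pcT).2
  rootT := fun c hc h => exists_of_cmB C24 hL (pcOK_spec C24 hL pcT).1
    (test := fun c => Nat.beq (mm c c) c1)
    (n := nat_lit 0x1010101000000000202020201010101000000000000000000000000000000000000000000000000000000000202020200000000000000000000000002020202000000000000000000000000000000000202020200000000010101010000000000000000020202020000000000000000010101010000000000000000010101010000000000000000000000000000000000000000000000000202020200000000000000000101010100000000000000000202020200000000010101010000000000000000000000000000000000000000000000000101010100000000000000000101010100000000020202020000000000000000020202020000000000000000030603060000000003060306000000000000000000000000000000000000000000000000000000000000000000000000000000000000000000000000000000000000000000000000000000000000000005040504000000000405040500000000000000000000000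0000000000000000000000000000000000000000000000000000000000000000000000000000000000000000000000000000000000000000000000000000000000000000000000000050405040000000004050405000000000000000000000000000000000000000000000000000000000000000000000000030603060000000003060306000000000000000000000000000000000000000000000000000000000000000000000000000000000000000000000000000000000000000000000000000000000000000000000000000000000000000000000000000000000000000000000000000000000000000000000000000000000000000000000000000000000000000000000000000000000000000000000000000000000000000000000000000000000000000000000000000000000000000000000000000000000000000000000000000000000000000000000000000000000000000000000000000000000000000000000000000000000000000000000000000000000000000000000000000000000000000000000000000000000000000000000000010001000000000002000200000000000000000000000000000000000000000000000000000000000000000000000000000000000000000000000000000000000000000000000000000000000000000000000000000000000000000000000000000000000000000000000000000000000100010000000000000200020000000000000000000000000000000000000000010001000000000000020002000000000000000000000000000000000000000000000000000000000000000000000000000000000000000000000000000000000000000000000000000000000000000001000100000000000200020000000000000000000000000000000000)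
    (by decide +kernel) hc (by rw [C24.map_mul, beq_one_iff C24]; exact h)
  root := fun w hw => ev_eq_of_eqsB C24 hL (es := WS.map fun w => (w ++ w, [4]))
    (by decide +kernel) _ (List.mem_map_of_mem hw)
  sqT := fun c hc h => exists_of_mem C24 hL (mem_of_sqB C24 (pcOK_spec C24 hL pcT).1
    (test := fun c => Nat.beq (mm c c) c1) (by decide +kernel) hc
    (by rw [C24.map_mul, beq_one_iff C24]; exact h))
  clsZ := le_ncard_cls C24 hL (iv_id sq) (P := 49711) (by decide +kernel) le_rfl
  cardK := (pcOK_spec C24 hL pcK).2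
  KZ := fun w hw => ev_eq_of_eqsB C24 hL (es := (sK.map Prod.fst).map fun w => (w ++ [5], 5 :: w))
    (by decide +kernel) _ (List.mem_map_of_mem hw)
  cardD := (pcOK_spec C24 hL pcD).2
  fourD := fun c hc h1 h2 h3 => by
    obtain ⟨w, hw, e⟩ := exists_of_cmB C24 hL (pcOK_spec C24 hL pcD).1 (ws := WF)
      (test := fun c => !memL c ([[], [0,2], [2,0]].map (evC mm c1 L))) (n := 2199040164096)
      (by decide +kernel) hc (Bool.eq_true_of_not_eq_false fun e => by
        obtain ⟨w, hw, e⟩ := exists_of_memL C24 hL ((Bool.not_eq_false' _).mp e)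
        simp only [List.mem_cons, List.not_mem_nil, or_false] at hw
        rcases hw with rfl | rfl | rfl
        exacts [h1 e, h2 e, h3 e])
    refine ⟨_, mem_of_inB C24 hL (pcE_sound C24 hL (iv := id)) (by decide +kernel) w hw, ?_, ?_, e⟩
    · simpa only [ev_append, ev_nil] using ev_eq_of_eqsB C24 hL
        (es := WF.map fun w => (w ++ w ++ (w ++ w), [])) (by decide +kernel) _
        (List.mem_map_of_mem hw)
    · simpa only [ev_append, ev_nil] using ev_ne_of_nesB C24 hL
        (es := WF.map fun w => (w ++ w, [])) (by decide +kernel) _ (List.mem_map_of_mem hw)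
  fourX := fun c hc h1 h2 => by
    obtain ⟨w, hw, rfl⟩ := exists_of_mem C24 hL (ws := [[], [4], [5], [4,5]])
      (mem_of_covB (pcOK_spec C24 hL pcK).1 (test := fun c => cm mm c (evC mm c1 L [0,2]) &&
        Nat.beq (mm (mm c c) (mm c c)) c1) (by decide +kernel) hc
      (by simp only [← code_ev C24 hL, cm_iff C24, C24.map_mul, beq_one_iff C24, Bool.and_eq_true]
          exact ⟨h1, h2⟩))
    simpa only [ev_append, ev_nil] using ev_eq_of_eqsB C24 hL
      (es := [[], [4], [5], [4,5]].map fun w => (w ++ w, [])) (by decide +kernel) _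
      (List.mem_map_of_mem hw)
  sqK := fun a ha => by
    have h1 := mem_of_inB C24 hL (pcE_sound C24 hL (iv := id) (s := sK)) (ws := WR)
      (by decide +kernel)
    have h2 := ev_eq_of_eqsB C24 hL (es := (WR.zip [6,7,9]).map fun p => (p.1 ++ p.1, [p.2]))
      (by decide +kernel)
    obtain ⟨p, hp, rfl⟩ := (by decide : ∀ a ∈ [6,7,9], ∃ p ∈ WR.zip [6,7,9], p.2 = a) a ha
    exact ⟨_, h1 _ (List.of_mem_zip hp).1, by
      simpa only [ev_append, ev_singleton] using h2 _ (List.mem_map_of_mem hp)⟩
  nine := fun c hc h1 h2 => exists_of_mem C24 hL (mem_of_sqB C24 (pcOK_spec C24 hL pcK).1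
    (test := fun c => Nat.beq (mm c c) c1 && Nat.beq (mm (mm c (mm (mm (evC mm c1 L [0,2]) c)
      (evC mm c1 L [2,0]))) (mm (mm (evC mm c1 L [2,0]) c) (evC mm c1 L [0,2]))) c1)
    (by decide +kernel) hc
    (by simp only [← code_ev C24 hL, C24.map_mul, beq_one_iff C24, Bool.and_eq_true]; exact ⟨h1, h2⟩))
  centK := fun c hc h1 h2 h3 => exists_of_mem C24 hL (mem_of_covB (pcOK_spec C24 hL pcK).1
    (test := fun c => cm mm c (evC mm c1 L [0,2]) && cm mm c (evC mm c1 L [6]) &&
      cm mm c (evC mm c1 L [7])) (by decide +kernel) hc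
    (by simp only [← code_ev C24 hL, cm_iff C24, Bool.and_eq_true]; exact ⟨⟨h1, h2⟩, h3⟩))
  centA := fun c hc h1 h2 => C24.mem_iff.1 (pcE_sound C24 hL (iv := id) _
    (mem_of_covB (pcOK_spec C24 hL pcK).1
    (test := fun c => cm mm c (evC mm c1 L [6]) && cm mm c (evC mm c1 L [0,2,6,2,0]))
    (by decide +kernel) hc
    (by simp only [← code_ev C24 hL, cm_iff C24, Bool.and_eq_true]; exact ⟨h1, h2⟩)))
  centB := fun c hc h1 h2 => C24.mem_iff.1 (pcE_sound C24 hL (iv := id) _
    (mem_of_covB (pcOK_spec C24 hL pcK).1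
    (test := fun c => cm mm c (evC mm c1 L [7]) && cm mm c (evC mm c1 L [0,2,7,2,0]))
    (by decide +kernel) hc
    (by simp only [← code_ev C24 hL, cm_iff C24, Bool.and_eq_true]; exact ⟨h1, h2⟩)))
  normK := norm_of_gen sq (mem_of_inB C24 hL (pcE_sound C24 hL (iv := id)) (by decide +kernel))
  normA := norm_of_gen sq (mem_of_inB C24 hL (pcE_sound C24 hL (iv := id)) (by decide +kernel))
  normB := norm_of_gen sq (mem_of_inB C24 hL (pcE_sound C24 hL (iv := id)) (by decide +kernel))
  fpfA := fpf_of_fpfB C24 hL (pcOK_spec C24 hL pcA).1 (by decide +kernel)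
  fpfB := fpf_of_fpfB C24 hL (pcOK_spec C24 hL pcB').1 (by decide +kernel)
  clsA := le_ncard_cls C24 hL (iv_id sq) (P := 38) (by decide +kernel) le_rfl
  clsB := le_ncard_cls C24 hL (iv_id sq) (P := 40) (by decide +kernel) le_rfl
  eqs := ev_eq_of_eqsB C24 hL (by decide +kernel)
  nes := ev_ne_of_nesB C24 hL (by decide +kernel)
  relsA := ev_one_of_relsB C24 hL (by decide +kernel)
  relsB := ev_one_of_relsB C24 hL (by decide +kernel)
  relsM := ev_one_of_relsB C24 hL (by decide +kernel)
  relsH := ev_one_of_relsB C24 hL (by decide +kernel)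
  relsT := ev_one_of_relsB C24 hL (by decide +kernel)
  b23 := ev_rep g wb 23 ▸ ev_one_of_relsB C24 hL (rs := [rep wb 23]) (by decide +kernel) _
    List.mem_cons_self
  fix := fun _ => fix (code_ev C24 hL wb)

theorem ok6 : F2M.OK 6 0x41041041 63 := ⟨by norm_num, by norm_num, by decide +kernel⟩

/-- the images of the letters in the symplectic group -/
def L6 : List ℕ := [0xc106043d1, 0x82108e230, 0x420e0b371, 0x8f5b87081, 0x810204081, 0x8da99823, 0x50d198e0, 0x210819ab4, 0x810204081, 0xa59f8d2f7]

theorem hL6 : ∀ c ∈ L6, Mem gcode spHom.range c := fun c hc =>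
  mem_sp (by revert c; decide +kernel) (by revert c; decide +kernel)

theorem spFacts : SpFacts (lt (gcode : GL (Fin 6) (ZMod 2) → ℕ) L6) where
  sq := lt_sq ok6.isCode (fun c hc => (hL6 c hc).top) (by decide +kernel)
  rels := ev_one_of_relsB ok6.isCode (fun c hc => (hL6 c hc).top) (by decide +kernel)
  equiv := by
    have e := MonoidHom.ofInjective spHom_injective
    refine ⟨(MulEquiv.subgroupCongr (Subgroup.eq_of_le_of_card_ge
      (gen_le_iff.2 fun w _ => ev_mem fun a _ => lt_mem ok6.isCode hL6 a) ?_)).trans e.symm⟩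
    rw [← Nat.card_congr e.toEquiv, card_Sp6]
    exact le_card_of_chain ok6.isAct ok6.isCode (fun c hc => (hL6 c hc).top) (ws := SS) (P := 64)
      (B := [(1, 63), (4, 30), (2, 12), (8, 8), (32, 4), (16, 2)]) (by decide +kernel) fun w hw => ev_mem fun a ha => mem_gen_letter
      ((by decide +kernel : ∀ w ∈ SS, ∀ a ∈ w, [a] ∈ WC) w hw a ha)

end CL.Rec.Co3
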