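/- Recognition of the third Conway group by `2 × M12`: the Conway group (generated data). -/
import Cfsg.Agent.REC.M3DataB
import Cfsg.Agent.REC.Co3Data

set_option autoImplicit false
set_option maxRecDepth 100000
set_option maxHeartbeats 400000

namespace CL.Rec.M3

open CL.K CL.CG CL.CE CL.A10 CL.F2M

theorem pcC_sB : pcOK mm c1 LC iv 18539 sB = true := by decide +kernel

theorem pcC_sU : pcOK mm c1 LC iv 8 sU = true := by decide +kernel

theorem pcC_sT : pcOK mm c1 LC iv 131181 sT = true := by decide +kernel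

theorem pcC_sR : pcOK mm c1 LC iv 8233 sR = true := by decide +kernel

theorem pcC_sT1 : pcOK mm c1 LC iv 32988 sT1 = true := by decide +kernel

theorem pcC_sK : pcOK mm c1 LC iv 2654228 sK = true := by decide +kernel

theorem pcC_sX : pcOK mm c1 LC iv 140 sX = true := by decide +kernel

theorem pcC_sZ : pcOK mm c1 LC iv 5 sZ = true := by decide +kernel

/-- the letters as words in the letters of the Conway group -/
def WD : List (ℕ × List ℕ) := [(0, [6,0,2,9,6,2,0]),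
  (1, [0,2,6,9,2,0,6]),
  (2, [0,1,2,6,2,9,1,9,0,2,7,6,2,0,5]),
  (3, [2,1,2,6,2,9,1,7,0,2]),
  (4, [6,0,2,6,9,2,0]),
  (5, [0,2,9,2,0,6,0,2,6,2,0]),
  (6, [0,1,2,6,2,9,1,9,0,2,6,2,0]),
  (7, [0,1,2,6,2,9,1,0,2,6,2,0,9]),
  (8, [0,9,2,1,2,0,2,0,2,6,2,0,4]),
  (9, [0,2,1,0,1,2,6,2,9,1,0,2,1,2,6,2,9,1,6]),
  (15, [9,0,2,6,2,0,7]),
  (16, [7,0,2,7,2,0]),
  (18, [0,2,9,2,0]),
  (19, [0,2,7,2,0,5]),
  (20, [9,6,9]),
  (21, [4]),
  (22, [5]),
  (23, [0,1,2,6,2,9,1,6,9,0,2,9,2,0]),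
  (24, [1,2,6,2,9,2,6,2,9,2,6,2,9,1,0,2,0,2,6,2,0]),
  (25, [0,2,0,2,1,2,6,2,9,1,9]),
  (26, [6,1,2,6,2,9,1,0,2,1,2,6,2,9,1]),
  (27, [0,2,6,9,0,2,6,2,0]),
  (28, [1,2,6,2,9,2,6,2,9,1,0,2,9,2,0,3,9,3,2,7,2,3,1,2,6,2,9,1,9,3,9,3,2,7,2,3,1,2,6,2,9,1,9,0,2,7,2,0]),
  (29, [3,9,3,2,7,2,3,1,2,6,2,9,1,9,1,2,6,2,9,2,6,2,9,1,0,2,6,9,2,0])]

theorem eqD : ∀ p ∈ WD, gC p.1 = ev Co3.g p.2 := fun p hp => C24.inj (by
  rw [code_lt' C24 hC, code_ev C24 Co3.hL]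
  exact Nat.eq_of_beq_eq_true (lall_iff.1 (by decide +kernel :
    lall (fun p => Nat.beq (ltC c1 LC p.1) (evC mm c1 Co3.L p.2)) WD = true) p hp))

attribute [local irreducible] pcE mm evC lt

theorem c_ei : Eqs gC EI1 :=
  ev_eq_of_eqsB C24 hC (by decide +kernel)

theorem c_oN2 : Orb gC [15] PN2 (fs sB) 384 :=
  ⟨ev_eq_of_eqsB C24 hC (by decide +kernel), dis_of C24 hC 6 (by decide +kernel),
    ev_eq_of_eqsB C24 hC (by decide +kernel), (pcOK_spec C24 hC pcC_sB).2⟩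

theorem c_n2 : Eqs gC (KY ++ (YR ++ (SG ++ FR10))) :=
  ev_eq_of_eqsB C24 hC (by decide +kernel)

theorem c_oN1 : Orb gC [15] PN1 (fs sC) 384 :=
  ⟨ev_eq_of_eqsB C24 hC (by decide +kernel), dis_of C24 hC 3 (by decide +kernel),
    ev_eq_of_eqsB C24 hC (by decide +kernel), (pcOK_spec C24 hC pcC_sC).2⟩

theorem c_tJ : Tab gC (fs sC) ([[0], [2], [4], [6], [16]].map cmE) [[],[21]] [] :=
  tab_of C24 hC (pcOK_spec C24 hC pcC_sC).1 (by decide +kernel)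

theorem c_nJ1 : Mems gC (fs sJ) (cjs iv (fs sJ) (lw [8])) :=
  mem_of_inB C24 hC (pcE_sound C24 hC (iv := iv)) (by decide +kernel)

theorem c_nJ2 : Mems gC (fs sJ) (cjs iv (fs sJ) (lw [20,18])) :=
  mem_of_inB C24 hC (pcE_sound C24 hC (iv := iv)) (by decide +kernel)

theorem c_nJ3 : Mems gC (fs sJ) (cjs iv (fs sJ) (lw [24])) :=
  mem_of_inB C24 hC (pcE_sound C24 hC (iv := iv)) (by decide +kernel)

theorem c_nJ4 : Mems gC (fs sJ) (cjs iv (fs sJ) (lw [26])) :=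
  mem_of_inB C24 hC (pcE_sound C24 hC (iv := iv)) (by decide +kernel)

theorem c_r3 : Eqs gC [(wr, []), (w12, []), (w23, [])] :=
  ev_eq_of_eqsB C24 hC (by decide +kernel)

theorem c_a1 : Eqs gC (subE WA (nfE DF E10)) :=
  ev_eq_of_eqsB C24 hC (by decide +kernel)

theorem c_a2 : Eqs gC (subE WA (nfE DF [(wp, [1,15,19])])) :=
  ev_eq_of_eqsB C24 hC (by decide +kernel)

theorem c_ra1 : Eqs gC (RA.take 2 ++ RA.drop 6) :=
  ev_eq_of_eqsB C24 hC (by decide +kernel)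

theorem c_ra2 : Eqs gC [([21,20],[20,21])] :=
  ev_eq_of_eqsB C24 hC (by decide +kernel)

theorem c_kc : Eqs gC KC :=
  ev_eq_of_eqsB C24 hC (by decide +kernel)

theorem c_oP : Orb gC [15] PP (fs sC) 384 :=
  ⟨ev_eq_of_eqsB C24 hC (by decide +kernel), dis_of C24 hC 14 (by decide +kernel),
    ev_eq_of_eqsB C24 hC (by decide +kernel), (pcOK_spec C24 hC pcC_sC).2⟩

theorem c_tU : Tab gC (fs sU) [] U4 [] :=
  tab_of C24 hC (pcOK_spec C24 hC pcC_sU).1 (by decide +kernel)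

theorem c_eU : Eqs gC (elE (fs sU)) :=
  ev_eq_of_eqsB C24 hC (by decide +kernel)

theorem c_nR1 : Mems gC (fs sR) (cjs iv (fs sR) (lw [12,13,19,20,23])) :=
  mem_of_inB C24 hC (pcE_sound C24 hC (iv := iv)) (by decide +kernel)

theorem c_nR2 : Mems gC (fs sR) (cjs iv (fs sR) (lw [24,25])) :=
  mem_of_inB C24 hC (pcE_sound C24 hC (iv := iv)) (by decide +kernel)

theorem c_tCR : TabM gC (fs sC) ([[20], [16], [18], [0], [19], [22]].map cmE) (fs sU) :=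
  tabM_of C24 hC (pcOK_spec C24 hC pcC_sC).1 (pcE_sound C24 hC (iv := iv)) (by decide +kernel)

theorem c_ab : Eqs gC [(va ++ invw iv wra, []), (vb ++ invw iv wrb, [])] :=
  ev_eq_of_eqsB C24 hC (by decide +kernel)

theorem c_ab4 : Eqs gC (U4.map (fun u => (rep (u ++ wra) 4, [])) ++ U4.map fun u => (rep (u ++ wrb) 4, [])) :=
  ev_eq_of_eqsB C24 hC (by decide +kernel)

theorem c_ar : Eqs gC (AR.map fun p => (p.1 ++ p.2.1, p.2.2 ++ p.1)) :=
  ev_eq_of_eqsB C24 hC (by decide +kernel)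

theorem c_arm : Mems gC (fs sR) (AR.map fun p => p.2.1) :=
  mem_of_inB C24 hC (pcE_sound C24 hC (iv := iv)) (by decide +kernel)

theorem c_cj : Eqs gC (CJ.map fun p => (p.1, p.2.1 ++ p.2.2)) :=
  ev_eq_of_eqsB C24 hC (by decide +kernel)

theorem c_cjm : Mems gC (fs sR) (CJ.map fun p => p.2.1) :=
  mem_of_inB C24 hC (pcE_sound C24 hC (iv := iv)) (by decide +kernel)

theorem c_cu : Eqs gC C3 :=
  ev_eq_of_eqsB C24 hC (by decide +kernel)

theorem c_cj3 : Eqs gC (CJ.map fun p => (rep (p.2.1 ++ p.2.2) 3, [])) :=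
  ev_eq_of_eqsB C24 hC (by decide +kernel)

theorem c_kU : Eqs gC (cms [21] (lw SK) ++ cms [22] (lw SK)) :=
  ev_eq_of_eqsB C24 hC (by decide +kernel)

theorem c_o13 : Orb gC [15] P72 (fs sS) 128 :=
  ⟨ev_eq_of_eqsB C24 hC (by decide +kernel), dis_of C24 hC 654 (by decide +kernel),
    ev_eq_of_eqsB C24 hC (by decide +kernel), (pcOK_spec C24 hC pcC_sS).2⟩

theorem c_cT : Nat.card (pg gC sT) = 1024 :=
  (pcOK_spec C24 hC pcC_sT).2

theorem c_cR : Nat.card (pg gC sR) = 256 :=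
  (pcOK_spec C24 hC pcC_sR).2

theorem c_cT1 : Nat.card (pg gC sT1) = 512 :=
  (pcOK_spec C24 hC pcC_sT1).2

theorem c_cK : Nat.card (pg gC sK) = 4608 :=
  (pcOK_spec C24 hC pcC_sK).2

theorem c_cU : Nat.card (pg gC sU) = 4 :=
  (pcOK_spec C24 hC pcC_sU).2

theorem c_cX : Nat.card (pg gC sX) = 32 :=
  (pcOK_spec C24 hC pcC_sX).2

theorem c_cZ : Nat.card (pg gC sZ) = 2 :=
  (pcOK_spec C24 hC pcC_sZ).2

theorem c_tU2 : Tab gC (fs sU) [] (R4.map fun r => cw iv (r, [15]) ++ [15]) [] :=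
  tab_of C24 hC (pcOK_spec C24 hC pcC_sU).1 (by decide +kernel)

theorem c_tY : TabM gC (fs sC) ([[22]].map cmE) (fs sR) :=
  tabM_of C24 hC (pcOK_spec C24 hC pcC_sC).1 (pcE_sound C24 hC (iv := iv)) (by decide +kernel)

theorem c_tR2 : Tab gC (fs sR) [] [] (U4.map fun u => [([[],[],[]], [u])]) :=
  tab_of C24 hC (pcOK_spec C24 hC pcC_sR).1 (by decide +kernel)

theorem c_tR : Tab gC (fs sR) [sqE] (K72.map (fun u => cw iv (u, [15])) ++ SQ.map fun w => w ++ w) [] :=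
  tab_of C24 hC (pcOK_spec C24 hC pcC_sR).1 (by decide +kernel)

theorem c_tT1 : Tab gC (fs sT1) [sqE] ((K72.map (fun u => cw iv (u, [15])) ++ SQ.map fun w => w ++ w) ++ R32.map fun u => cw iv (u, wt)) [] :=
  tab_of C24 hC (pcOK_spec C24 hC pcC_sT1).1 (by decide +kernel)

theorem c_tX : Tab gC (fs sX) [] (R32.map fun u => invw iv wt ++ cw iv (u, wt)) [] :=
  tab_of C24 hC (pcOK_spec C24 hC pcC_sX).1 (by decide +kernel)

theorem c_big2 : NoBig gC (K72.map fun u => 15 :: cw iv (u, [15])) 32 :=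
  noBig_of C24 hC U4 (by decide +kernel)

theorem c_mK : Mems gC (fs sK) (lw SK) :=
  mem_of_inB C24 hC (pcE_sound C24 hC (iv := iv)) (by decide +kernel)

theorem c_mR : Mems gC (fs sR) (lw [0,1,15,16,18,19,20,21,22]) :=
  mem_of_inB C24 hC (pcE_sound C24 hC (iv := iv)) (by decide +kernel)

theorem c_mT1 : Mems gC (fs sT1) [wt] :=
  mem_of_inB C24 hC (pcE_sound C24 hC (iv := iv)) (by decide +kernel)

theorem c_ek : Eqs gC EK :=
  ev_eq_of_eqsB C24 hC (by decide +kernel)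

theorem c_et1 : Eqs gC [([15,24], [8,15,20,18,9])] :=
  ev_eq_of_eqsB C24 hC (by decide +kernel)

theorem c_et2 : Eqs gC [([15,20,18], [28,26,16,15,16,27,29])] :=
  ev_eq_of_eqsB C24 hC (by decide +kernel)

theorem c_sqr : Eqs gC (SQR.map fun p => (p.1, p.2.flatMap fun w => w ++ w)) :=
  ev_eq_of_eqsB C24 hC (by decide +kernel)

theorem c_dc : Mems gC (fs sR) (DC.map fun p => p.1 ++ (p.2.1 ++ invw iv p.2.2)) :=
  mem_of_inB C24 hC (pcE_sound C24 hC (iv := iv)) (by decide +kernel)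

theorem c_nK : Mems gC (fs sR) (cjs iv (fs sR) (fs sK)) :=
  mem_of_inB C24 hC (pcE_sound C24 hC (iv := iv)) (by decide +kernel)

theorem c_n3 : Eqs gC ((N7 ++ N2).map fun w => (rep w 3, [])) :=
  ev_eq_of_eqsB C24 hC (by decide +kernel)

theorem c_b1 : TabM gC (fs sR) ([[26]].map cmE) (fs sU) :=
  tabM_of C24 hC (pcOK_spec C24 hC pcC_sR).1 (pcE_sound C24 hC (iv := iv)) (by decide +kernel)

theorem c_b2 : TabM gC (fs sR) ([[27]].map cmE) (fs sU) :=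
  tabM_of C24 hC (pcOK_spec C24 hC pcC_sR).1 (pcE_sound C24 hC (iv := iv)) (by decide +kernel)

theorem c_gd : Nes gC (N7.flatMap fun n => (N7 ++ N2).tail.map fun m =>
    cw iv (m, 15 :: cw iv (n, wd)) ++ invw iv (15 :: cw iv (n, wd))) :=
  nes_of C24 hC (by decide +kernel)

theorem c_two : Out gC (fs sU) ([26] :: (N7 ++ N2).map fun n => cw iv (n, cw iv (wt, [15])) ++ [15]) :=
  out_of C24 hC (pcOK_spec C24 hC pcC_sU).1 (by decide +kernel)

theorem c_nO1 : Mems gC (fs sO) (cjs iv (fs sO) (lw [8,24,23,0])) :=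
  mem_of_inB C24 hC (pcE_sound C24 hC (iv := iv)) (by decide +kernel)

theorem c_nO2 : Mems gC (fs sO) (cjs iv (fs sO) (lw [28])) :=
  mem_of_inB C24 hC (pcE_sound C24 hC (iv := iv)) (by decide +kernel)

theorem c_tO : Tab gC (fs sK) ((fs sO).map cmE) I4 [] :=
  tab_of C24 hC (pcOK_spec C24 hC pcC_sK).1 (by decide +kernel)

theorem c_r13 : Eqs gC R13 :=
  ev_eq_of_eqsB C24 hC (by decide +kernel)

theorem c_rPa : Eqs gC RPa :=
  ev_eq_of_eqsB C24 hC (by decide +kernel)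

theorem c_wk1 : Eqs gC (weak [21] [8,0,23,24,18,20,16,15,19]) :=
  ev_eq_of_eqsB C24 hC (by decide +kernel)

theorem c_wk : Eqs gC (weak w12 SW ++ weak w23 SW) :=
  ev_eq_of_eqsB C24 hC (by decide +kernel)

theorem c_nU : Mems gC (fs sU) (cjs iv (fs sU) (lw S13)) :=
  mem_of_inB C24 hC (pcE_sound C24 hC (iv := iv)) (by decide +kernel)

theorem c_oU : Out gC (fs sU) [[8,22,9]] :=
  out_of C24 hC (pcOK_spec C24 hC pcC_sU).1 (by decide +kernel)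

theorem c_clsH : 630 ≤ (cls (CE.gen gC (lw SH)) (ev gC [22])).ncard :=
  le_ncard_cls C24 hC invC (P := 49711) (by decide +kernel) le_rfl

theorem c_tT : Tab gC (fs sT) [sqE] ([[],[21]] ++ (H54.map (fun u => cw iv (u, [22])) ++ H136.map fun u => cw iv (u, [15]))) [] :=
  tab_of C24 hC (pcOK_spec C24 hC pcC_sT).1 (by decide +kernel)

theorem c_tZ1 : Tab gC (fs sZ) [] [[],[21]] [] :=
  tab_of C24 hC (pcOK_spec C24 hC pcC_sZ).1 (by decide +kernel)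

theorem c_zT : Mems gC (fs sZ) ((fs sT).map (fun u => cw iv (u, [22]) ++ [22]) ++ [[22,8,22,9,9,22,8]]) :=
  mem_of_inB C24 hC (pcE_sound C24 hC (iv := iv)) (by decide +kernel)

theorem c_oZ : Out gC (fs sZ) [[22,8,22,9], [22]] :=
  out_of C24 hC (pcOK_spec C24 hC pcC_sZ).1 (by decide +kernel)

theorem factsC : FC gC := ⟨factsB,
  c_ei, c_oN2, c_n2, c_oN1, c_tJ, c_nJ1, c_nJ2, c_nJ3, c_nJ4, c_r3, c_a1, c_a2, c_ra1, c_ra2, 
  c_kc, c_oP, c_tU, c_eU, c_nR1, c_nR2, c_tCR, c_ab, c_ab4, c_ar, c_arm, c_cj, c_cjm, c_cu, 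
  c_cj3, c_kU, c_o13, c_cT, c_cR, c_cT1, c_cK, c_cU, c_cX, c_cZ, c_tU2, c_tY, c_tR2, c_tR, 
  c_tT1, c_tX, c_big2, c_mK, c_mR, c_mT1, c_ek, c_et1, c_et2, c_sqr, c_dc, c_nK, c_n3, c_b1, 
  c_b2, c_gd, c_two, c_nO1, c_nO2, c_tO, c_r13, c_rPa, c_wk1, c_wk, c_nU, c_oU, c_clsH, c_tT, 
  c_tZ1, c_zT, c_oZ⟩

end CL.Rec.M3
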