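/- Recognition of the Higman–Sims group: words, relators and the facts about the model.
The letters are `s, x, y, a, a⁻¹, b, b⁻¹, i, i⁻¹, j, j⁻¹, k, k⁻¹`. -/
import Cfsg.Agent.REC.Amal3

set_option autoImplicit false

namespace CL.Rec.HS

open CL.K CL.CG CL.CE CL.A10

/-- the inverse letters -/
def ivl : List ℕ := [0,1,2,4,3,6,5,8,7,10,9,12,11]

/-- the inverse letters -/
def iv (a : ℕ) : ℕ := ivl.getD a a

/-- an element of order three -/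
def wd : List ℕ := [3,2,9,2,4,5,10,4,2,12,3,0,1]

/-- an element of order 11 -/
def wb : List ℕ := [0,2,3]

/-- the cube of `x b` -/
def nw : List ℕ := [1,5,1,5,1,5]

/-- the eight-group -/
def WV : List (List ℕ) := [[7,7], [11,11], [9,9]]

/-- its involutions -/
def WV7 : List (List ℕ) := [[7,7], [11,11], [9,9], [7,7,11,11], [7,7,9,9], [11,11,9,9],
  [7,7,11,11,9,9]]

/-- the powers of `i` -/
def WI : List (List ℕ) := [[], [7], [7,7], [8]]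

/-- candidates -/
def CD : List (List ℕ) := [[], [11,11], [9,9], [11,11,9,9], [1], [1,7,7,9,9]]

/-- the homocyclic group -/
def sW : List (List ℕ × ℕ) := [([7], 4), ([11], 4), ([9], 4)]

/-- the parabolic subgroup -/
def sP : List (List ℕ × ℕ) := [([0], 2), ([5], 3), ([1], 2), ([5,1,6], 2),
  ([7], 4), ([11], 4), ([9], 4)]

/-- the symplectic type group -/
def sR : List (List ℕ × ℕ) := [([1], 2), ([5,1,6], 2), ([11,11], 2), ([9,9], 2),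
  ([7], 4)]

/-- a Sylow 2-subgroup -/
def sT : List (List ℕ × ℕ) := [([0], 2), ([1], 2), ([5,1,6], 2), ([7], 4),
  ([11], 4), ([9], 4)]

/-- a centraliser -/
def sC : List (List ℕ × ℕ) := [([0], 2), ([6,1,5], 2), ([7], 4), ([11], 4),
  ([9], 4)]

/-- an elementary abelian group -/
def sE : List (List ℕ × ℕ) := [([0], 2), ([6,1,5], 2), ([11,11], 2), ([7,7], 2)]

/-- a group of order nine -/
def sD : List (List ℕ × ℕ) := [([5], 3), ([3,2,9,2,4,5,10,4,2,12,3,0,1], 3)]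

/-- generators -/
def WM : List (List ℕ) := [[0], [1], [3], [4], [5], [6],
  [7], [8], [11], [12], [9], [10],
  [1,5,1,5,1,5], [6,1,6,1,6,1]]

/-- generators -/
def WB : List (List ℕ) := [[3], [4], [5], [6], [7], [8],
  [11], [12], [9], [10]]

/-- generators -/
def WH : List (List ℕ) := [[0], [1], [2], [5], [6], [7],
  [8], [9], [10], [11], [12]]

/-- generators -/
def WT : List (List ℕ) := [[0], [1], [2], [3], [4], [5],
  [6], [7], [8], [9], [10], [11],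
  [12]]

/-- conjugators -/
def ZA : List (List ℕ) := [[3,5,2,3], [5,2,3], [6,2,3], [2,3], [], [3],
  [3,3], [6,4,2,3], [3,9,2,4], [3,2,4], [2,4], [9,5,2,3],
  [2,0,4], [3,5,9,2,3], [6,3], [2,1,3], [11,2,3], [5,9,2,3],
  [10,2,3], [1,3], [11,2,1,3], [9,2,3], [10,6,2,3], [11,6,2,3],
  [11,9,2,3], [4], [9,2,4], [6,11,2,3], [5,10,2,3], [9,6,2,3],
  [0,9,2,4], [12,6,2,3], [0,9,2,3], [3,5,10,2,3], [2,3,2,4], [9,6,4,2,3],
  [11,6,4,2,3], [9,3,2,4], [7,3,2,4], [1,3,2,4], [6,12,4,2,3], [6,11,4,2,3],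
  [12,2,4], [11,2,4], [10,3,2,4], [0,4], [10,6,4,2,3]]

/-- conjugators -/
def ZB : List (List ℕ) := [[9,2,12,1], [4,2,12,2,1], [10,2,11,1], [4,2,11,2,1], [9,3,2,9], [3,2,9,2],
  [3,2,10,2], [0,4,2,12,1], [10,3,2,10], [6,3,2,10], [0,4,2,11,1], [6,3,2,9],
  [10,2,12], [2,12,2], [2,12,2,1], [11,6,3,2,9], [2,11,2,1], [10,2,12,1],
  [2,11,2], [10,6,3,2,9], [9,2,11], [11,4,2,12,1], [4,2,11,1], [12,4,2,11,1],
  [9,2,11,1], [4,2,12,1], [2,11,1], [5,3,2,9], [5,3,2,10], [9,2,12],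
  [1,3,2,9], [2,11], [3,2,10], [3,2,9], [1,3,2,10], [2,12,1],
  [6,3,2,9,2], [6,3,2,10,2], [2,12], [10,2,11]]

/-- conjugators -/
def WZ : List (List ℕ) := [[7,11,11], [9,9], [1], [0,1,0]]

/-- relators -/
def RV : List (List ℕ) := [[7,7,7,7], [11,11,11,11], [9,9,9,9], [7,7,11,11,7,7,11,11], [7,7,9,9,7,7,9,9], [11,11,9,9,11,11,9,9]]

/-- relators -/
def RW : List (List ℕ) := [[7,7,7,7], [11,11,11,11], [9,9,9,9], [7,11,8,12], [7,9,8,10], [11,9,12,10]]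

/-- relators -/
def R0 : List (List ℕ) := [[3,3,3,3,3,3,3], [5,5,5], [5,3,6,4,4], [0,5,0,5], [0,1,0,1,0,1,0,1], [1,4,0,3]]

/-- relators -/
def RH : List (List ℕ) := [[5,5,5], [0,5,0,5], [0,7,0,7], [7,9,8,10], [0,5,9,0,5,10], [5,7,7,9,5,9,5,9],
  [12,6,9,5]]

/-- relators -/
def RY : List (List ℕ) := [[2,5,2,6], [2,7,2,7], [2,9,9,2,1], [2,9,0,10,2,9,0,10,2,9,0,10], [2,0,2,0,9,0,2,0,2,10], [2,0,2,0,2,0,2,0,2,0,2,0,2,0,2,0]]

/-- relators -/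
def RTM : List (List ℕ) := [[3,3,3,3,3,3,3], [5,5,5], [5,3,6,4,4], [0,5,0,5], [0,1,0,1,0,1,0,1], [1,4,0,3],
  [1,5,1,5,1,5], [3,7,4,12], [3,11,4,10], [7,7,7,7], [7,9,8,10], [7,11,8,12],
  [9,11,10,12], [3,9,4,8,11,9,9], [5,7,6,8], [5,11,6,10], [1,7,1,8], [1,9,1,9],
  [0,11,0,12], [0,7,0,7], [1,11,1,3,10,4], [0,1,0,5,1,6], [5,7,7,9,5,9,5,9], [0,1,6,7,9,0,1,9,6,10]]

/-- relators -/
def RTH : List (List ℕ) := [[2,5,2,6], [2,7,2,7], [2,9,9,2,1], [2,9,0,10,2,9,0,10,2,9,0,10], [2,0,2,0,7,7]]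

/-- relators that are products of conjugates -/
def RA : List (List (List ℕ × List ℕ)) := [[([3], [7]), ([], [12])],
  [([3], [11]), ([], [10])],
  [([3], [9]), ([], [10]), ([], [10]), ([], [11]), ([], [8])],
  [([5], [7]), ([], [8])],
  [([5], [11]), ([], [10])],
  [([5], [9]), ([], [9]), ([], [11]), ([], [8]), ([], [8])],
  [([1], [9]), ([], [9])]]

/-- words without fixed points -/
def FP : List (List ℕ × ℕ) := [([2,3,5], 5), ([1,2,7,3,5,2,3,5], 5)]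

/-- equations -/
def EQ : List (List ℕ × List ℕ) := [([3,7,7,4], [11,11]), ([3,11,11,4], [9,9]), ([3,9,9,4], [7,7,11,11]), ([5,7,7,6], [7,7]),
  ([5,11,11,6], [9,9]), ([5,9,9,6], [11,11,9,9]), ([1,7,7,1], [7,7]), ([1,11,11,1], [7,7,11,11]),
  ([1,9,9,1], [9,9]), ([3,7,4], [11]), ([3,11,4], [9]), ([3,9,4], [12,7,9,9]),
  ([5,7,6], [7]), ([5,11,6], [9]), ([5,9,6], [3,3,9,4,4]), ([1,7,1], [7]),
  ([1,11,1], [3,9,4]), ([1,9,1], [10]), ([2,1,2], [9,9]), ([2,5,1,6,2], [5,9,9,6]),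
  ([2,11,11,2], [6,1,5]), ([2,9,9,2], [1]), ([2,7,2], [8]), ([4,4,4,1,3,7,7], [7,7,4,4,4,1,3]),
  ([4,4,1,3,3,7,7], [7,7,4,4,1,3,3]), ([3,1,4,7,7], [7,7,3,1,4]), ([4,7,7,3], [7,7,9,9]), ([1,4,7,7,9,9,3,1], [11,11,9,9]),
  ([3,1,4], [0]), ([0,7,7], [7,7,0]), ([1,7,7], [7,7,1]), ([2,7,7], [7,7,2]),
  ([5,7,7], [7,7,5]), ([6,7,7], [7,7,6]), ([7,7,7], [7,7,7]), ([8,7,7], [7,7,8]),
  ([9,7,7], [7,7,9]), ([10,7,7], [7,7,10]), ([11,7,7], [7,7,11]), ([12,7,7], [7,7,12]),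
  ([0,11,11], [11,11,0]), ([6,1,5,11,11], [11,11,6,1,5]), ([7,11,11], [11,11,7]), ([11,11,11], [11,11,11]),
  ([9,11,11], [11,11,9]), ([5,2,7], [2,7,5]), ([3,2,9,2,4,5,10,4,2,12,3,0,1,2,7], [2,7,3,2,9,2,4,5,10,4,2,12,3,0,1]), ([0,5,0,6,0,5,0,6,0,5,0,6,0,5,0,6,6], []),
  ([0,5,0,6,0,5,0,6,0,5,0,6], []), ([0,9,0,10,0,9,0,10], [11,11]), ([5,9,0,10,6,9,0,10,9,9], [11,11,5,9,0,10,6,9,0,10]), ([4,7,3,1,4,8,3], [1,7,7,9,9])]

/-- inequations -/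
def NE : List (List ℕ × List ℕ) := [([9,12,8,11,9], [7]), ([7,3,10,4,12], [7,7,9,9]), ([4,7,3,7,9], [11,11,9,9]), ([4,8,3,7,9], [11,11,9,9]),
  ([2,7], []), ([0,2,3], []), ([3], []), ([5,11,11], [11,11,5]),
  ([5,9,9], [9,9,5]), ([5,7,7,11,11], [7,7,11,11,5]), ([5,7,7,9,9], [7,7,9,9,5]), ([5,11,11,9,9], [11,11,9,9,5]),
  ([5,7,7,11,11,9,9], [7,7,11,11,9,9,5])]

/-- relations of a power of `i` -/
noncomputable def tm (v : List ℕ) : List (List (List ℕ × List ℕ)) :=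
  [[([], v), ([5], invw iv v)], [([0], v), ([], v)],
    [([], v), ([3], v), ([3,3,3], v), ([4], v), ([4], v)]]

/-- relators -/
noncomputable def RelsM : List (List ℕ) := RW ++ (R0 ++ (RA.map (cws iv) ++ (tm nw).map (cws iv)))

/-- relators -/
noncomputable def RelsT : List (List ℕ) := RTM ++ (RTH ++ FP.map fun p => rep p.1 p.2)

/-- the subgroup generated by a polycyclic sequence -/
abbrev pg {M : Type*} [Group M] (g : ℕ → M) (s : List (List ℕ × ℕ)) : Subgroup M :=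
  CE.gen g (s.map Prod.fst)

/-- The facts about the model. -/
structure Facts {M : Type*} [Group M] (g : ℕ → M) : Prop where
  inv : ∀ a, g (iv a) = (g a)⁻¹
  eqs : ∀ e ∈ EQ, ev g e.1 = ev g e.2
  nes : ∀ e ∈ NE, ev g e.1 ≠ ev g e.2
  relsV : ∀ r ∈ RV, ev g r = 1
  relsM : ∀ r ∈ RelsM, ev g r = 1
  relsH : ∀ r ∈ RH ++ RY, ev g r = 1
  relsT : ∀ r ∈ RelsT, ev g r = 1
  relsI : ∀ r ∈ (WI.flatMap tm).map (cws iv), ev g r = 1
  cardV : 8 ≤ Nat.card (CE.gen g WV)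
  cardW : Nat.card (pg g sW) = 64
  cardP : Nat.card (pg g sP) = 1536
  cardR : Nat.card (pg g sR) = 64
  cardT : Nat.card (pg g sT) = 512
  cardC : Nat.card (pg g sC) = 256
  cardD : Nat.card (pg g sD) = 9
  cardG : Nat.card (CE.gen g WT) = 44352000
  sqW : ∀ c ∈ pg g sW, ∃ w ∈ [] :: WV7, c * c = ev g w
  invW : ∀ c ∈ pg g sW, c * c = 1 → ∃ w ∈ [] :: WV7, c = ev g w
  conjA : ∀ c ∈ pg g sW, ∃ u ∈ pg g sW, u * c * ev g [3,3] = ev g [3,3] * u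
  conjB : ∀ c ∈ pg g sW, c * ev g [5] * (c * ev g [5]) * (c * ev g [5]) = 1 →
    ∃ u ∈ pg g sW, u * c * ev g [5] = ev g [5] * u
  fpfA : ∀ c ∈ pg g sW, ev g [3] * c = c * ev g [3] → c = 1
  cbW : ∀ c ∈ pg g sW, ev g [5] * c = c * ev g [5] ∨ ev g [5] * c = c * ev g [7,7] * ev g [5] →
    ∃ w ∈ WI, c = ev g w
  cWR : ∀ c ∈ pg g sR, c * ev g [11] = ev g [11] * c → c * ev g [9] = ev g [9] * c → c ∈ pg g sW
  normW : ∀ u ∈ sR.map Prod.fst, ∀ c ∈ pg g sW, ev g u * c * (ev g u)⁻¹ ∈ pg g sW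
  normR : ∀ u ∈ WH, ∀ c ∈ pg g sR, ev g u * c * (ev g u)⁻¹ ∈ pg g sR
  normE : ∀ u ∈ [[1],[2],[7],[3,5]], ∀ c ∈ pg g sE, ev g u * c * (ev g u)⁻¹ ∈ pg g sE
  conjR : ∀ c ∈ pg g sR, c * ev g [5] * (c * ev g [5]) * (c * ev g [5]) = 1 →
    ∃ u ∈ pg g sR, u * c * ev g [5] = ev g [5] * u
  cbR : ∀ c ∈ pg g sR, ev g [5] * c = c * ev g [5] → ∃ w ∈ WI, c = ev g w
  c3R : ∀ c ∈ pg g sR, ev g [2,9,0,10] * c = c * ev g [2,9,0,10] → ∃ w ∈ WI, c = ev g w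
  cand : ∀ c ∈ pg g sR, c * c = 1 → c * ev g [9,9] = ev g [9,9] * c →
    c * (ev g [5] * c * ev g [6]) = ev g [5] * c * ev g [6] * c →
    c * (ev g [5] * c * ev g [6]) * (ev g [6] * c * ev g [5]) = 1 → ∃ w ∈ CD, c = ev g w
  memR : ∀ w ∈ [[0,9,0,10,0,9,0,10]], ev g w ∈ pg g sR
  cRC : ∀ c ∈ pg g sC, c * ev g [1] = ev g [1] * c → c * ev g [5,1,6] = ev g [5,1,6] * c →
    c ∈ pg g sR
  cEC : ∀ c ∈ pg g sC, c * ev g [0] = ev g [0] * c → c * ev g [6,1,5] = ev g [6,1,5] * c →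
    c ∈ pg g sE
  clsM : 7 ≤ (cls (CE.gen g WM) (ev g [7,7])).ncard
  clsH : 30 ≤ (cls (CE.gen g WH) (ev g [11,11])).ncard
  fpfE : ∀ w ∈ FP.map Prod.fst, ∀ c ∈ pg g sE, ev g w * c = c * ev g w → c = 1
  invT : ∀ c ∈ pg g sT, c * c = 1 → ∃ w ∈ [] :: (ZA.map (fun u => cw iv (u, [7,7])) ++
    ZB.map fun u => cw iv (u, [2,7])), c = ev g w
  prodT : ∀ c ∈ pg g sT, c * c = 1 → c ≠ 1 → c ≠ ev g [7,7] →
    ∃ w ∈ WZ, ev g w * c = c * ev g [7,7] * ev g w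
  fix : ∀ a ∈ CE.gen g WT, ∀ b ∈ CE.gen g WT, orderOf a = 7 → orderOf b = 11 → a * b ≠ b * a

end CL.Rec.HS
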