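/- The action of the Leech lattice group on the lattice modulo two, as coded matrices. -/
import Cfsg.Agent.SPOR.LeechCls
import Cfsg.Agent.SPOR.LeechRep
import Cfsg.Agent.SPOR.F2Mat

set_option autoImplicit false
set_option exponentiation.threshold 700
set_option maxRecDepth 100000
set_option maxHeartbeats 400000

namespace CL.Rec

open Cfsg CL.Leech CL.K CL.Pack CL.MT CL.CG CL.F2M Finset MulAction
open CL.Golay (E)

/-- the general linear group of degree 24 over the field with two elements -/
abbrev GL24 : Type := GL (Fin 24) (ZMod 2)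

/-- lane mask -/
def CM24 : ℕ := 0x1000001000001000001000001000001000001000001000001000001000001000001000001000001000001000001000001000001000001000001000001000001000001000001

theorem ok24 : F2M.OK 24 CM24 16777215 := ⟨by norm_num, by norm_num, by decide +kernel⟩

/-- product of codes -/
noncomputable def mm (a b : ℕ) : ℕ := F2M.mulC 24 CM24 16777215 a b

/-- action on codes of vectors -/
noncomputable def ac (a v : ℕ) : ℕ := F2M.act 24 16777215 a v

/-- code of the identity -/
def c1 : ℕ := 0x800000400000200000100000080000040000020000010000008000004000002000001000000800000400000200000100000080000040000020000010000008000004000002000001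

theorem C24 : IsCode (gcode : GL24 → ℕ) mm c1 := by
  have h : F2M.oneC 24 = c1 := by decide +kernel
  rw [← h]; exact ok24.isCode

theorem A24 : IsAct (gcode : GL24 → ℕ) (F2M.enc 24) ac := ok24.isAct

/-- a basis of the lattice -/
def cB : ℕ := 0x6210841108421084210842108421084a56749d294a4e94a5294a52939ce74290a428c84190842108429083190862108421084210c42108421084210842906520c8520cc4210842948421084218c421084210842108421084210839ce93a4e949ce539ce739ce939d2952148429084190a421083210852908521084210a520c6420c6421084210a49d2739ce93ace949ce749ce939ce93190642908520ca421084210842908221044210842108421084210842108420ca4194a4210632108421084290862108421084110842108421084210839ce539ce74a4e74a4e749ce939ce9420884110842108421084210842108520ca520c85210842108421083190849ce93a4e73952939ce93a5274a527394a739d293ace739ce749ce74a4e941908428c8518c8420c642108421084a4e74a4e73a52b49d294a4e939ce723108421084210842108421084210839ca949ce74a4e739ce739d2739d29421465190842908529084210852108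

/-- the dual basis -/
def cD : ℕ := 0x4a52739ce74a4e739d273a4a53a5254210842148420c8420ca32108418c64210842108320c842908328c63210842108421484210a328c8420c84194842108420c842108321485214a5210a39d2949d2749d2939ce94a4e949ceb4210842108420c83210a420ca51948421084210842108421082210842088421084214852148518c8429084210a42108420ca321085210841948329084210842108420c85210a420c63294839d2749d2949d6939ce73a4e739ce9421085210832108328c84210a329084210852108318c84210a519084210a421084210642108328ca4210a420ca39ce939d2949d2959d273a52949ce942108420ca521484210a41906420c84210842108421084208c42108421084210842108420c83210a420c6518c8421084210842108421044210842104421085214642108418c8428ca421084290842108420c8420ca418c6421064210852146320c8420c832108321084210852108320c8428ca420c842148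

theorem ent_cB : ∀ j < 24, ∀ i < 24, ent cB j i ≤ 16 := by decide +kernel
theorem ent_cD : ∀ j < 24, ∀ i < 24, ent cD j i ≤ 16 := by decide +kernel

theorem rowv_mem {c k : ℕ} (h : ∀ i < 24, ent c k i ≤ 16) (hL : isL (rowOf c k) = true) :
    rowv c k ∈ leechLattice := by
  rw [← vec_enc (bd_rowv h), enc_rowv]; exact isL_spec hL

theorem cB_mem : ∀ k < 24, rowv cB k ∈ leechLattice ∧ sqNorm (rowv cB k) ≤ 64 := by
  have h : ∀ k < 24, sqNorm (rowv cB k) ≤ 64 := by decide +kernel
  have h' : allLt (fun k => isL (rowOf cB k)) 24 = true := by decide +kernel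
  exact fun k hk => ⟨rowv_mem (ent_cB k hk) (allLt_iff.1 h' k hk), h k hk⟩

theorem cD_mem : ∀ k < 24, rowv cD k ∈ leechLattice ∧ sqNorm (rowv cD k) ≤ 64 := by
  have h : ∀ k < 24, sqNorm (rowv cD k) ≤ 64 := by decide +kernel
  have h' : allLt (fun k => isL (rowOf cD k)) 24 = true := by decide +kernel
  exact fun k hk => ⟨rowv_mem (ent_cD k hk) (allLt_iff.1 h' k hk), h k hk⟩

theorem dual_chk : allLt (fun p => allLt (fun q => Nat.beq
    (sumLt (fun j => Nat.add (Nat.mul (ent cD j q) (ent cB j p)) 64) 24)
    (Nat.add (sumLt (fun j => Nat.mul 8 (Nat.add (ent cD j q) (ent cB j p))) 24)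
      (Nat.mul 8 (ind p q)))) 24) 24 = true := by decide +kernel

theorem dual (p q : GolayPt) :
    ∑ j : Fin 24, rowv cD j q * rowv cB j p = if p = q then 8 else 0 := by
  have h0 := allLt_iff.1 dual_chk _ (E.enc_lt p)
  beta_reduce at h0
  have h := allLt_iff.1 h0 _ (E.enc_lt q)
  beta_reduce at h
  rw [Nat.beq_eq] at h
  rw [sumLt_eq, sumLt_eq, ind_eq] at h
  rw [Fin.sum_univ_eq_sum_range (fun j => rowv cD j q * rowv cB j p)]
  have h2 := congrArg (Nat.cast : ℕ → ℤ) h
  simp only [Nat.add_eq, Nat.mul_eq, E.enc_inj] at h2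
  push_cast at h2
  rw [← sub_eq_iff_eq_add', ← Finset.sum_sub_distrib] at h2
  rw [show (if p = q then (8 : ℤ) else 0) = 8 * if p = q then 1 else 0 by split_ifs <;> rfl, ← h2]
  refine Finset.sum_congr rfl fun j _ => ?_
  unfold rowv; ring

/-- basis vector -/
def bv (j : Fin 24) : leechLattice := ⟨rowv cB j, (cB_mem j j.2).1⟩

/-- coordinate with respect to the basis -/
def co (v : leechLattice) (i : Fin 24) : ℤ := dotInt (rowv cD i) v / 8

theorem eight_co (v : leechLattice) (i : Fin 24) : 8 * co v i = dotInt (rowv cD i) v :=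
  Int.mul_ediv_cancel' (eight_dvd_dot (cD_mem i i.2).1 v.2)

theorem co_add (v w : leechLattice) (i : Fin 24) : co (v + w) i = co v i + co w i := by
  have h1 := eight_co (v + w) i
  rw [AddSubgroup.coe_add, dot_add_right, ← eight_co, ← eight_co] at h1
  omega

/-- the coordinate as an additive map -/
def coHom (i : Fin 24) : leechLattice →+ ℤ := AddMonoidHom.mk' (fun v => co v i) fun v w => co_add v w i

theorem eq_sum (v : leechLattice) : v = ∑ j, co v j • bv j := by
  apply Subtype.ext
  funext p
  have h : (8 : ℤ) * (v : GolayPt → ℤ) p = 8 * ∑ j, co v j * rowv cB j p := by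
    rw [Finset.mul_sum]
    simp only [← mul_assoc, eight_co, dotInt, Finset.sum_mul]
    rw [Finset.sum_comm]
    have : ∀ q, ∑ j : Fin 24, rowv cD j q * (v : GolayPt → ℤ) q * rowv cB j p =
        (if p = q then 8 else 0) * (v : GolayPt → ℤ) q := fun q => by
      rw [← dual, Finset.sum_mul]
      exact Finset.sum_congr rfl fun j _ => by ring
    simp only [this, ite_mul, zero_mul, Finset.sum_ite_eq, Finset.mem_univ, if_true]
  rw [AddSubgroup.val_finsetSum, Finset.sum_apply]
  simp only [AddSubgroup.coe_zsmul, Pi.smul_apply, smul_eq_mul, bv]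
  omega

theorem co_smul (g : Co0) (v : leechLattice) (i : Fin 24) :
    co (g • v) i = ∑ j, co (g • bv j) i * co v j := by
  conv_lhs => rw [eq_sum v, Finset.smul_sum]
  change coHom i _ = _
  rw [map_sum]
  refine Finset.sum_congr rfl fun j _ => ?_
  rw [smul_zsmul, map_zsmul, smul_eq_mul, mul_comm]; rfl

theorem co_bv : ∀ i j : Fin 24, co (bv j) i = if i = j then 1 else 0 := by decide +kernel

/-- the matrix modulo two -/
noncomputable def matHom : Co0 →* Matrix (Fin 24) (Fin 24) (ZMod 2) where
  toFun g := Matrix.of fun i j => (co (g • bv j) i : ZMod 2)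
  map_one' := by
    ext i j
    rw [Matrix.of_apply, one_smul, co_bv, Matrix.one_apply]
    split_ifs <;> simp
  map_mul' g h := by
    ext i j
    rw [Matrix.of_apply, mul_smul, co_smul, Matrix.mul_apply]
    push_cast
    rfl

/-- the representation modulo two -/
noncomputable def rho : Co0 →* GL24 := matHom.toHomUnits

noncomputable def MD : ℕ := matOf cD
noncomputable def KD : ℕ := kOf MD

/-- coordinates modulo two of the vector with code `X` -/
noncomputable def col2 (X : ℕ) : ℕ :=
  force (Nat.land (app MD KD X) ONES) fun Y => sumLt (fun i => Nat.shiftLeft (dg Y i) i) 24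

theorem col2_enc {v : leechLattice} (hv : sqNorm (v : GolayPt → ℤ) ≤ 64) :
    col2 (Leech.enc v) = vcode fun i : Fin 24 => (co v i : ZMod 2) := by
  rw [col2, force_eq, KD, MD, app_dd ent_cD cD_mem hv, sumLt_eq]
  have h1 : ∀ i < 24, dd cD v i % 2 < 2 ^ 1 := fun i _ => Nat.mod_lt _ two_pos
  have h2 : ∑ i ∈ range 24, Nat.shiftLeft (dg (pk fun j => dd cD v j % 2) i) i =
      PM.pack 1 24 fun j => dd cD v j % 2 := by
    refine Finset.sum_congr rfl fun i hi => ?_
    rw [dg_pk (fun e he => (h1 e he).trans (by norm_num)) (Finset.mem_range.1 hi), one_mul]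
    exact Nat.shiftLeft_eq _ _
  rw [h2]
  symm
  rw [vcode_eq_iff (by simpa using pack_lt h1)]
  funext i
  have h3 := PM.testBit_pack 24 h1 i 0 one_pos
  rw [one_mul, add_zero] at h3
  rw [vdec, h3]
  have h4 := dot_ge_of_norms (cD_mem i i.2).2 hv
  have h5 : (dd cD v i : ℤ) = co v i + 8 := by unfold dd co; omega
  rcases Nat.mod_two_eq_zero_or_one (dd cD v i) with h | h
  · rw [h]
    simp only [Nat.zero_testBit, Bool.and_false, b2z]
    exact (ZMod.intCast_zmod_eq_zero_iff_dvd _ 2).2 (by omega)
  · rw [h]
    simp only [i.2, decide_true, Bool.true_and, b2z]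
    exact (ZMod.intCast_eq_intCast_iff_dvd_sub _ 1 2).2 (by omega)

/-- the code modulo two of the automorphism acting by `f` -/
noncomputable def code2 (f : ℕ → ℕ) : ℕ := cols 24 fun j => col2 (f (rowOf cB j))

attribute [irreducible] cB cD MD KD col2

theorem gcode_rho {g : Co0} {f : ℕ → ℕ} (h : RepF g f) : gcode (rho g) = code2 f := by
  refine mcode_eq_cols fun j => ?_
  have hn : sqNorm ((bv j : leechLattice) : GolayPt → ℤ) ≤ 64 := (cB_mem j j.2).2
  have e : rowOf cB j = Leech.enc ((bv j : leechLattice) : GolayPt → ℤ) := (enc_rowv cB j).symm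
  rw [e, h _ (by omega), col2_enc (by rwa [sqNorm_smul]), Matrix.mulVec_single_one]
  exact congrArg vcode (funext fun i => rfl)

/-- the compact matrix `p.1` is an automorphism fixing the vectors with codes in `F`; its code
modulo two is `p.2` -/
noncomputable def okGen (F : List ℕ) (p : ℕ × ℕ) : Bool :=
  force (matOf p.1) fun M => force (kOf M) fun K => okMK p.1 M K &&
    lall (fun X => Nat.beq (app M K X) X) F && Nat.beq (code2 (app M K)) p.2

attribute [local irreducible] matOf kOf app okMK code2 in
theorem okGen_spec {F : List ℕ} {p : ℕ × ℕ} (h : okGen F p = true) :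
    ∃ g : Co0, gcode (rho g) = p.2 ∧ ∀ x : leechLattice, sqNorm (x : GolayPt → ℤ) ≤ 80 →
      Leech.enc x ∈ F → g • x = x := by
  rw [okGen, force_eq, force_eq, Bool.and_eq_true, Bool.and_eq_true, lall_iff] at h
  obtain ⟨⟨h1, h2⟩, h3⟩ := h
  obtain ⟨g, hg⟩ := okMK_spec h1
  have hg' : RepF g (app (matOf p.1) (kOf (matOf p.1))) := fun x hx => hg x hx
  simp only [Nat.beq_eq] at h2 h3
  exact ⟨g, (gcode_rho hg').trans h3, fun x hx hF => hg.smul_eq hx hx (h2 _ hF)⟩

/-- A subgroup of the lattice group as a coded matrix group. -/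
theorem gen_equiv {K : Subgroup Co0} {L : List ℕ}
    (hL : ∀ c ∈ L, Mem gcode (K.map rho) c) (hc : Nat.card K ≤ Nat.card (gen (G := GL24) gcode L)) :
    gen gcode L = K.map rho ∧ Nonempty (gen (G := GL24) gcode L ≃* K) := by
  have : Finite Co0 := Nat.finite_of_card_ne_zero (by rw [card_Co0]; norm_num)
  have h1 : gen gcode L ≤ K.map rho := C24.gen_le hL
  have h2 : Nat.card (K.map rho) ≤ Nat.card K :=
    Nat.card_le_card_of_surjective _ (rho.subgroupMap_surjective K)
  have h3 : gen gcode L = K.map rho := Subgroup.eq_of_le_of_card_ge h1 (h2.trans hc)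
  refine ⟨h3, ⟨(MulEquiv.subgroupCongr h3).trans (MulEquiv.ofBijective (rho.subgroupMap K) ?_).symm⟩⟩
  exact (Nat.bijective_iff_surjective_and_card _).2
    ⟨rho.subgroupMap_surjective K, le_antisymm (h3 ▸ hc) h2⟩

theorem mem_Co3 {p : ℕ × ℕ} (h : okGen [cW0] p = true) :
    Mem gcode ((stabilizer Co0 W0).map rho) p.2 := by
  obtain ⟨g, h1, h2⟩ := okGen_spec h
  exact ⟨_, ⟨g, h2 _ le_W0 (by simp [enc_W0]), rfl⟩, h1⟩

theorem mem_McL {p : ℕ × ℕ} (h : okGen [cW0, cU] p = true) : Mem gcode (GMcL.map rho) p.2 := by
  obtain ⟨g, h1, h2⟩ := okGen_spec h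
  exact ⟨_, ⟨g, ⟨h2 _ le_W0 (by simp [enc_W0]), h2 _ le_U (by simp [enc_U])⟩, rfl⟩, h1⟩

theorem mem_HS {p : ℕ × ℕ} (h : okGen [cW0, cU'] p = true) : Mem gcode (GHS.map rho) p.2 := by
  obtain ⟨g, h1, h2⟩ := okGen_spec h
  exact ⟨_, ⟨g, ⟨h2 _ le_W0 (by simp [enc_W0]), h2 _ le_U' (by simp [enc_U'])⟩, rfl⟩, h1⟩

end CL.Rec
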