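/- Tools for calculations with words: rewriting, tables with one variable, and their transfer
along partial isomorphisms. -/
import Cfsg.Agent.REC.Amal3

set_option autoImplicit false
set_option maxHeartbeats 200000

namespace CL.Rec.M3

open CL.K CL.CG CL.CE CL.A10

section Words
variable {G : Type*} [Group G] {g : ℕ → G} {iv : ℕ → ℕ}

/-- a list of equations -/
abbrev EL : Type := List (List ℕ × List ℕ)

/-- a list of equations with a variable -/
abbrev XL : Type := List (List (List ℕ) × List (List ℕ))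

/-- the equations hold -/
def Eqs (g : ℕ → G) (E : EL) : Prop := ∀ e ∈ E, ev g e.1 = ev g e.2

/-- the words are not trivial -/
def Nes (g : ℕ → G) (N : List (List ℕ)) : Prop := ∀ r ∈ N, ev g r ≠ 1

theorem Eqs.app {E E' : EL} (h : Eqs g E) (h' : Eqs g E') : Eqs g (E ++ E') :=
  fun e he => (List.mem_append.1 he).elim (h e) (h' e)

theorem Eqs.cons {E : EL} {u v : List ℕ} (h : ev g u = ev g v) (h' : Eqs g E) :
    Eqs g ((u, v) :: E) := List.forall_mem_cons.2 ⟨h, h'⟩

theorem Eqs.get {E : EL} (h : Eqs g E) (u v : List ℕ) (he : (u, v) ∈ E := by decide +kernel) :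
    ev g u = ev g v := h _ he

/-- remove a prefix -/
def strip : List ℕ → List ℕ → Option (List ℕ)
  | [], s => some s
  | _ :: _, [] => none
  | a :: l, b :: s => cond (Nat.beq a b) (strip l s) none

theorem strip_spec : ∀ {l s t : List ℕ}, strip l s = some t → s = l ++ t
  | [], _, _, h => Option.some.inj h
  | _ :: _, [], _, h => by cases h
  | a :: l, b :: s, t, h => by
    rw [strip] at h
    cases e : Nat.beq a b <;> rw [e] at h
    · cases h
    · rw [Nat.eq_of_beq_eq_true e, strip_spec h]; rfl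

/-- apply the first rule that fits -/
def tryR : EL → List ℕ → Option (List ℕ × List ℕ)
  | [], _ => none
  | r :: R, s => (strip r.1 s).casesOn (tryR R s) fun t => some (t, r.2)

theorem tryR_spec {s t v : List ℕ} : ∀ {R : EL}, Eqs g R → tryR R s = some (t, v) →
    ev g s = ev g v * ev g t
  | [], _, h => by cases h
  | r :: R, hR, h => by
    rw [tryR] at h
    cases e : strip r.1 s <;> rw [e] at h
    · exact tryR_spec (fun e he => hR e (List.mem_cons_of_mem _ he)) h
    · cases h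
      rw [strip_spec e, ev_append, hR r List.mem_cons_self]

/-- rewriting from the right -/
def nfA (R : EL) : ℕ → List ℕ → List ℕ → List ℕ
  | 0, s, w => w.reverseAux s
  | _ + 1, s, [] => s
  | n + 1, s, a :: w => (tryR R (a :: s)).casesOn (nfA R n (a :: s) w) fun p =>
      nfA R n p.1 (p.2.reverseAux w)

theorem nfA_spec {R : EL} (hR : Eqs g R) : ∀ (n : ℕ) (s w : List ℕ),
    ev g (nfA R n s w) = ev g w.reverse * ev g s
  | 0, s, w => by rw [nfA, List.reverseAux_eq, ev_append]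
  | _ + 1, s, [] => by simp [nfA, ev_nil]
  | n + 1, s, a :: w => by
    rw [nfA]
    cases e : tryR R (a :: s) with
    | none => simp only [nfA_spec hR n, List.reverse_cons, ev_append, ev_cons, ev_nil, mul_one,
        mul_assoc]
    | some p =>
      have := tryR_spec hR (t := p.1) (v := p.2) e
      simp only [nfA_spec hR n, List.reverseAux_eq, List.reverse_append, List.reverse_reverse,
        List.reverse_cons, ev_append, mul_assoc, ← this, ev_cons, ev_nil, mul_one]

/-- normal form -/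
def nf (R : EL) (w : List ℕ) : List ℕ := nfA R 1000000 [] w.reverse

theorem Eqs.nf {R : EL} (hR : Eqs g R) (w : List ℕ) : ev g (nf R w) = ev g w := by
  rw [M3.nf, nfA_spec hR, List.reverse_reverse, ev_nil, mul_one]

/-- both sides have the same normal form -/
noncomputable def drvB (R E : EL) : Bool := lall (fun e => leq (nf R e.1) (nf R e.2)) E

theorem Eqs.drv {R : EL} (hR : Eqs g R) (E : EL) (h : drvB R E = true := by decide +kernel) :
    Eqs g E := fun e he => by
  rw [← hR.nf, eq_of_leq (lall_iff.1 h e he), hR.nf]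

theorem Eqs.drv1 {R : EL} (hR : Eqs g R) (u v : List ℕ)
    (h : drvB R [(u, v)] = true := by decide +kernel) : ev g u = ev g v :=
  hR.drv _ h _ List.mem_cons_self

theorem Eqs.via {R : EL} (hR : Eqs g R) {u v : List ℕ} (e : ev g u = ev g v) (m m' A B : List ℕ)
    (h : drvB R [(A, m ++ (u ++ m')), (B, m ++ (v ++ m'))] = true := by decide +kernel) :
    ev g A = ev g B := by
  have := hR.drv _ h
  rw [this _ List.mem_cons_self, this _ (List.mem_cons_of_mem _ List.mem_cons_self)]
  simp only [ev_append, e]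

/-- the relators that belong to equations -/
noncomputable def toR (iv : ℕ → ℕ) (E : EL) : List (List ℕ) :=
  E.map fun e => red iv (e.1 ++ invw iv e.2)

theorem Eqs.pres {E : EL} (h : Eqs g E) (hi : ∀ a, g (iv a) = (g a)⁻¹) : Pres g iv (toR iv E) :=
  ⟨hi, fun r hr => by
    obtain ⟨e, he, rfl⟩ := List.mem_map.1 hr
    rw [ev_red hi, ev_append, ev_invw fun a _ => hi a, h e he, mul_inv_cancel]⟩

/-- the tail of a term with a variable -/
def evT (g : ℕ → G) (c : G) : List (List ℕ) → G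
  | [] => 1
  | u :: l => c * ev g u * evT g c l

/-- a term with a variable between the words -/
def evX (g : ℕ → G) (c : G) : List (List ℕ) → G
  | [] => 1
  | w :: l => ev g w * evT g c l

/-- the equations hold for `c` -/
def Sat (g : ℕ → G) (c : G) (H : XL) : Prop := ∀ e ∈ H, evX g c e.1 = evX g c e.2

/-- the variable commutes with the word -/
def cmE (w : List ℕ) : List (List ℕ) × List (List ℕ) := ([[], w], [w, []])

/-- the variable is an involution -/
def sqE : List (List ℕ) × List (List ℕ) := ([[], [], []], [])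

theorem sat_nil {c : G} : Sat g c [] := fun _ h => nomatch h

theorem sat_cons {c : G} {e : List (List ℕ) × List (List ℕ)} {H : XL} :
    Sat g c (e :: H) ↔ evX g c e.1 = evX g c e.2 ∧ Sat g c H := List.forall_mem_cons

theorem sat_sq {c : G} : Sat g c [sqE] ↔ c * c = 1 := by simp [Sat, sqE, evX, evT, ev_nil]

theorem sat_cm {c : G} {ws : List (List ℕ)} :
    Sat g c (ws.map cmE) ↔ ∀ w ∈ ws, c * ev g w = ev g w * c := by
  simp [Sat, cmE, evX, evT, ev_nil]

/-- substitute a word for the variable -/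
def flat (w : List ℕ) : List (List ℕ) → List ℕ
  | [] => []
  | u :: l => u ++ l.flatMap fun v => w ++ v

theorem ev_flat (w : List ℕ) (t : List (List ℕ)) : ev g (flat w t) = evX g (ev g w) t := by
  cases t with
  | nil => rfl
  | cons u l =>
    rw [flat, evX, ev_append]
    congr 1
    induction l with
    | nil => rfl
    | cons v l ih => rw [List.flatMap_cons, ev_append, ev_append, ih, evT]

/-- every candidate is good or contradicts an equation -/
noncomputable def elimB (iv : ℕ → ℕ) (R : EL) (N : List (List ℕ)) (H : XL)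
    (ws good : List (List ℕ)) : Bool :=
  lall (fun w => lany (leq w) good ||
    lany (fun e => lany (leq (nf R (flat w e.1 ++ invw iv (flat w e.2)))) N) H) ws

theorem Eqs.elim (hi : ∀ a, g (iv a) = (g a)⁻¹) {R : EL} (hR : Eqs g R) {N : List (List ℕ)}
    (hN : Nes g N) {H : XL} {c : G} (hH : Sat g c H) {ws : List (List ℕ)}
    (hc : ∃ w ∈ ws, c = ev g w) (good : List (List ℕ))
    (h : elimB iv R N H ws good = true := by decide +kernel) : ∃ w ∈ good, c = ev g w := by
  obtain ⟨w, hw, rfl⟩ := hc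
  rcases Bool.or_eq_true_iff.1 (lall_iff.1 h w hw) with h | h
  · obtain ⟨v, hv, e⟩ := lany_iff.1 h
    exact ⟨v, hv, by rw [eq_of_leq e]⟩
  · obtain ⟨e, he, h⟩ := lany_iff.1 h
    obtain ⟨r, hr, h⟩ := lany_iff.1 h
    refine (hN r hr ?_).elim
    rw [← eq_of_leq h, hR.nf, ev_append, ev_invw fun a _ => hi a, ev_flat, ev_flat, hH e he,
      mul_inv_cancel]

/-- A table: a member of the subgroup that satisfies `H` is one of `ws` or satisfies one of `A`. -/
def Tab (g : ℕ → G) (W : List (List ℕ)) (H : XL) (ws : List (List ℕ)) (A : List XL) : Prop :=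
  ∀ c ∈ CE.gen g W, Sat g c H → (∃ w ∈ ws, c = ev g w) ∨ ∃ a ∈ A, Sat g c a

theorem Tab.ws {W : List (List ℕ)} {H : XL} {ws : List (List ℕ)} (h : Tab g W H ws []) {c : G}
    (hc : c ∈ CE.gen g W) (hH : Sat g c H) : ∃ w ∈ ws, c = ev g w :=
  (h c hc hH).resolve_right fun ⟨_, h, _⟩ => nomatch h

theorem Tab.alt {W : List (List ℕ)} {H : XL} {A : List XL} (h : Tab g W H [] A) {c : G}
    (hc : c ∈ CE.gen g W) (hH : Sat g c H) : ∃ a ∈ A, Sat g c a :=
  (h c hc hH).resolve_left fun ⟨_, h, _⟩ => nomatch h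

/-- the values are members -/
def Mems (g : ℕ → G) (W vs : List (List ℕ)) : Prop := ∀ v ∈ vs, ev g v ∈ CE.gen g W

/-- the values are different -/
def Dis (g : ℕ → G) (ws : List (List ℕ)) : Prop := (ws.map (ev g)).Nodup

/-- a subgroup that consists of values of the words is small -/
def NoBig (g : ℕ → G) (ws : List (List ℕ)) (n : ℕ) : Prop :=
  ∀ V : Subgroup G, (∀ v ∈ V, ∃ w ∈ ws, v = ev g w) → Nat.card V < n

/-- the letters as words -/
def lw (S : List ℕ) : List (List ℕ) := S.map fun a => [a]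

/-- the word uses the letters `S` only -/
noncomputable def sb (S w : List ℕ) : Bool := lall (fun a => memL a S) w

/-- the words use the letters `S` only -/
noncomputable def sbL (S : List ℕ) (ws : List (List ℕ)) : Bool := lall (sb S) ws

/-- the equations use the letters `S` only -/
noncomputable def sbE (S : List ℕ) (E : EL) : Bool := lall (fun e => sb S e.1 && sb S e.2) E

/-- the equations use the letters `S` only -/
noncomputable def sbX (S : List ℕ) (H : XL) : Bool := lall (fun e => sbL S e.1 && sbL S e.2) H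

theorem sb_iff {S w : List ℕ} : sb S w = true ↔ ∀ a ∈ w, a ∈ S := by simp [sb, lall_iff, memL_iff]

theorem ev_mem_sb {S w : List ℕ} {K : Subgroup G} (h : ∀ a ∈ S, g a ∈ K)
    (hw : sb S w = true := by decide +kernel) : ev g w ∈ K := ev_mem fun a ha => h a (sb_iff.1 hw a ha)

theorem gen_le_sb {S : List ℕ} {W : List (List ℕ)} {K : Subgroup G} (h : ∀ a ∈ S, g a ∈ K)
    (hw : sbL S W = true := by decide +kernel) : CE.gen g W ≤ K :=
  gen_le_iff.2 fun w hw' => ev_mem_sb h (lall_iff.1 hw w hw')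

theorem mem_lw {S : List ℕ} (a : ℕ) (ha : a ∈ S) : g a ∈ CE.gen g (lw S) :=
  mem_gen_letter (List.mem_map_of_mem (f := fun a => [a]) ha)

theorem gen_mono {W W' : List (List ℕ)} (h : lall (fun w => lany (leq w) W') W = true := by
    decide +kernel) : CE.gen g W ≤ CE.gen g W' := gen_le_iff.2 fun w hw => by
  obtain ⟨v, hv, e⟩ := lany_iff.1 (lall_iff.1 h w hw)
  exact eq_of_leq e ▸ ev_mem_gen hv

theorem comm_gen {W : List (List ℕ)} {c : G} (h : ∀ w ∈ W, c * ev g w = ev g w * c) :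
    ∀ k ∈ CE.gen g W, c * k = k * c := fun _ hk => (Subgroup.mem_centralizer_singleton_iff.1
  (gen_le_iff.2 (fun w hw => Subgroup.mem_centralizer_singleton_iff.2 (h w hw).symm) hk)).symm

/-- the equations that say that `u` commutes with the words `W` -/
def cms (u : List ℕ) (W : List (List ℕ)) : EL := W.map fun w => (u ++ w, w ++ u)

theorem Eqs.cms {u : List ℕ} {W : List (List ℕ)} (h : Eqs g (cms u W)) :
    ∀ w ∈ W, ev g u * ev g w = ev g w * ev g u := fun w hw => by
  simpa only [ev_append] using h _ (List.mem_map_of_mem hw)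

theorem eqs_cms {u : List ℕ} {W : List (List ℕ)}
    (h : ∀ w ∈ W, ev g u * ev g w = ev g w * ev g u) : Eqs g (cms u W) := fun e he => by
  obtain ⟨w, hw, rfl⟩ := List.mem_map.1 he
  simpa only [ev_append] using h w hw

theorem Dis.ncard {ws : List (List ℕ)} (h : Dis g ws) {S : Set G}
    (hS : ∀ c, c ∈ S ↔ ∃ w ∈ ws, c = ev g w) : S.ncard = ws.length := by
  classical
  rw [← List.length_map (ev g), ← List.toFinset_card_of_nodup h, ← Set.ncard_coe_finset]
  congr 1
  ext c
  simp [hS, eq_comm]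

/-- words that normalise -/
def Nrm (g : ℕ → G) (W us : List (List ℕ)) : Prop :=
  ∀ u ∈ us, ∀ k ∈ CE.gen g W, ev g u * k * (ev g u)⁻¹ ∈ CE.gen g W

/-- the conjugates of the generators -/
noncomputable def cjs (iv : ℕ → ℕ) (W us : List (List ℕ)) : List (List ℕ) :=
  us.flatMap fun u => W.map fun v => cw iv (u, v)

theorem Mems.nrm (hi : ∀ a, g (iv a) = (g a)⁻¹) {W us : List (List ℕ)}
    (h : Mems g W (cjs iv W us)) : Nrm g W us := norm_of_gen' hi h

theorem Nrm.mem [Finite G] {W us : List (List ℕ)} (h : Nrm g W us) {u : List ℕ} (hu : u ∈ us) :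
    ev g u ∈ Subgroup.normalizer (CE.gen g W : Set G) :=
  Subgroup.mem_normalizer_fintype (h u hu)

theorem ev_congr {g' : ℕ → G} {S w : List ℕ} (h : ∀ a ∈ S, g a = g' a) (hw : sb S w = true) :
    ev g w = ev g' w := by
  rw [ev, ev, List.map_congr_left fun a ha => h a (sb_iff.1 hw a ha)]

theorem Eqs.congr {g' : ℕ → G} {S : List ℕ} {E : EL} (hE : Eqs g E) (h : ∀ a ∈ S, g a = g' a)
    (hs : sbE S E = true := by decide +kernel) : Eqs g' E := fun e he => by
  have := Bool.and_eq_true_iff.1 (lall_iff.1 hs e he)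
  rw [← ev_congr h this.1, ← ev_congr h this.2, hE e he]

/-- substitution in equations -/
noncomputable def subE (ws : List (List ℕ)) (E : EL) : EL :=
  E.map fun e => (substW ws e.1, substW ws e.2)

theorem Eqs.subst {ws : List (List ℕ)} {E : EL} (h : Eqs g (subE ws E)) : Eqs (subst g ws) E :=
  fun e he => by simpa only [ev_substW] using h _ (List.mem_map_of_mem he)

/-- normal forms of equations -/
def nfE (R E : EL) : EL := E.map fun e => (nf R e.1, nf R e.2)

theorem Eqs.of_nf {R E : EL} (hR : Eqs g R) (h : Eqs g (nfE R E)) : Eqs g E :=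
  fun e he => by simpa only [hR.nf] using h _ (List.mem_map_of_mem he)

/-- free reduction -/
def frE (iv : ℕ → ℕ) (n : ℕ) : EL := (List.range n).map fun a => ([a, iv a], [])

theorem eqs_fr (n : ℕ) (hi : ∀ a < n, g (iv a) = (g a)⁻¹) : Eqs g (frE iv n) := fun e he => by
  obtain ⟨a, ha, rfl⟩ := List.mem_map.1 he
  rw [ev_cons, ev_singleton, hi a (List.mem_range.1 ha), mul_inv_cancel, ev_nil]

/-- commuting involutions -/
def elE (W : List (List ℕ)) : EL := (W.map fun w => (w ++ w, [])) ++ W.flatMap fun u => cms u W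

theorem Eqs.elem {W : List (List ℕ)} (h : Eqs g (elE W)) : ∀ v ∈ CE.gen g W, v * v = 1 := by
  have h2 : ∀ u ∈ W, ∀ k ∈ CE.gen g W, ev g u * k = k * ev g u := fun u hu => comm_gen
    (Eqs.cms fun e he => h e (List.mem_append_right _ (List.mem_flatMap.2 ⟨u, hu, he⟩)))
  intro v hv
  induction hv using Subgroup.closure_induction with
  | mem x hx =>
    obtain ⟨w, hw, rfl⟩ := hx
    rw [← ev_append]
    exact h _ (List.mem_append_left _ (List.mem_map_of_mem hw))
  | one => exact one_mul 1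
  | mul x y hx hy h1 h3 =>
    rw [mul_assoc, ← mul_assoc y, comm_gen (fun w hw => (h2 w hw y hy).symm) x hx, mul_assoc, h3,
      mul_one, h1]
  | inv x _ h1 => rw [← mul_inv_rev, h1, inv_one]

/-- A member of the subgroup that satisfies `H` lies in a smaller subgroup. -/
def TabM (g : ℕ → G) (W : List (List ℕ)) (H : XL) (W' : List (List ℕ)) : Prop :=
  ∀ c ∈ CE.gen g W, Sat g c H → c ∈ CE.gen g W'

/-- coset representatives of a normal subgroup -/
theorem dec_of [Finite G] (hi : ∀ a, g (iv a) = (g a)⁻¹) {W us ms : List (List ℕ)}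
    (hn : Nrm g W us) {P : List (List ℕ × List ℕ × List ℕ)}
    (h : Mems g W (P.map fun p => p.1 ++ (p.2.1 ++ invw iv p.2.2)))
    (hs : (lany (leq []) ms && lall (fun u => lall (fun m => lany (fun p => leq p.1 u && leq p.2.1 m
      && lany (leq p.2.2) ms) P) ms) us) = true := by decide +kernel) :
    ∀ k ∈ CE.gen g us, ∃ r ∈ CE.gen g W, ∃ m ∈ ms, k = r * ev g m := fun k hk => by
  rw [Bool.and_eq_true, lall_iff] at hs
  obtain ⟨v, hv, rfl⟩ := exists_ev_of_mem_gen hk
  clear hk
  induction v with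
  | nil =>
    obtain ⟨m, hm, e⟩ := lany_iff.1 hs.1
    exact ⟨1, Subgroup.one_mem _, m, hm, by rw [← eq_of_leq e, one_mul]; rfl⟩
  | cons a v ih =>
    obtain ⟨r, hr, m, hm, e⟩ := ih fun b hb => hv b (List.mem_cons_of_mem _ hb)
    have ha := hv a List.mem_cons_self
    have hu := List.getElem_mem ha
    obtain ⟨p, hp, e1⟩ := lany_iff.1 (lall_iff.1 (hs.2 _ hu) m hm)
    simp only [Bool.and_eq_true] at e1
    obtain ⟨m', hm', e2⟩ := lany_iff.1 e1.2
    have := h _ (List.mem_map_of_mem hp)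
    rw [eq_of_leq e1.1.1, eq_of_leq e1.1.2, eq_of_leq e2, ev_append, ev_append,
      ev_invw fun a _ => hi a] at this
    refine ⟨_, Subgroup.mul_mem _ (hn _ hu r hr) this, m', hm', ?_⟩
    rw [ev_cons, e, CE.subst, List.getD_eq_getElem _ _ ha]
    group

/-- the relations of a central involution -/
def weak (w : List ℕ) (S : List ℕ) : EL := (w ++ w, []) :: cms w (lw S)

theorem eqs_weak {w z S : List ℕ} (h : ev g w = 1 ∨ ev g w = ev g z) (hz : Eqs g (weak z S)) :
    Eqs g (weak w S) := by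
  rcases h with h | h
  · exact Eqs.cons (by simp [ev_append, h, ev_nil]) (eqs_cms fun u _ => by simp [h])
  · exact Eqs.cons (by simpa only [ev_append, h] using hz _ List.mem_cons_self)
      (eqs_cms (h ▸ Eqs.cms fun e he => hz e (List.mem_cons_of_mem _ he)))

theorem Eqs.mono {E : EL} (h : Eqs g E) (E' : EL)
    (hs : lall (fun e => lany (fun f => leq e.1 f.1 && leq e.2 f.2) E) E' = true := by
      decide +kernel) : Eqs g E' := fun e he => by
  obtain ⟨f, hf, h'⟩ := lany_iff.1 (lall_iff.1 hs e he)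
  rw [Bool.and_eq_true] at h'
  rw [eq_of_leq h'.1, eq_of_leq h'.2, h f hf]

theorem eqs_nil : Eqs g [] := fun _ h => nomatch h

theorem Eqs.one {u v : List ℕ} (h : ev g u = ev g v) : Eqs g [(u, v)] := Eqs.cons h eqs_nil

theorem Eqs.left {E E' : EL} (h : Eqs g (E ++ E')) : Eqs g E :=
  fun e he => h e (List.mem_append_left _ he)

theorem Eqs.right {E E' : EL} (h : Eqs g (E ++ E')) : Eqs g E' :=
  fun e he => h e (List.mem_append_right _ he)

/-- substitution of a word for the variable -/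
def flE (w : List ℕ) (H : XL) : EL := H.map fun e => (flat w e.1, flat w e.2)

theorem Eqs.sat {w : List ℕ} {H : XL} (h : Eqs g (flE w H)) : Sat g (ev g w) H := fun e he => by
  simpa only [ev_flat] using h _ (List.mem_map_of_mem he)

/-- the values are not members -/
def Out (g : ℕ → G) (W vs : List (List ℕ)) : Prop := ∀ v ∈ vs, ev g v ∉ CE.gen g W

theorem mem_add {K : Subgroup G} {S : List ℕ} (h : ∀ a ∈ S, g a ∈ K) {E : EL} (hE : Eqs g E)
    (S' : List ℕ) (hs : lall (fun a => memL a S || lany (fun e => leq e.1 [a] && sb S e.2) E) S' =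
      true := by decide +kernel) : ∀ a ∈ S', g a ∈ K := fun a ha => by
  rcases Bool.or_eq_true_iff.1 (lall_iff.1 hs a ha) with h' | h'
  · exact h a (memL_iff.1 h')
  · obtain ⟨e, he, h'⟩ := lany_iff.1 h'
    have := Bool.and_eq_true_iff.1 h'
    have e1 := hE e he
    rw [eq_of_leq this.1, ev_singleton] at e1
    exact e1 ▸ ev_mem_sb h this.2

theorem Mems.lw {W : List (List ℕ)} {S : List ℕ} (h : Mems g W (lw S)) :
    ∀ a ∈ S, g a ∈ CE.gen g W := fun a ha =>
  ev_singleton g a ▸ h _ (List.mem_map_of_mem (f := fun a => [a]) ha)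

theorem NoBig.conj {ws : List (List ℕ)} {n : ℕ} (h : NoBig g ws n) (V : Subgroup G) (k : G)
    (hV : ∀ v ∈ V, ∃ w ∈ ws, k * v * k⁻¹ = ev g w) : Nat.card V < n := by
  rw [← Subgroup.card_map_of_injective (f := (MulAut.conj k).toMonoidHom) (MulAut.conj k).injective]
  exact h _ fun _ ⟨v, hv, e⟩ => e ▸ hV v hv

theorem tabM_of_cls [Finite G] {W W' : List (List ℕ)} {t : List ℕ} {n m : ℕ}
    (h1 : n ≤ (cls (CE.gen g W) (ev g t)).ncard) (hn : 0 < n)
    (h2 : Nat.card (CE.gen g W) ≤ n * m) (h3 : Nat.card (CE.gen g W') = m)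
    (h4 : CE.gen g W' ≤ CE.gen g W) (h5 : Eqs g (cms t W')) : TabM g W ([t].map cmE) W' :=
  fun _ hc hH => (Subgroup.eq_of_le_of_card_ge (le_inf h4 (gen_le_iff.2 fun w hw =>
    Subgroup.mem_centralizer_singleton_iff.2 (h5.cms w hw).symm))
    (h3 ▸ card_cent_le h1 hn h2)).ge ⟨hc, Subgroup.mem_centralizer_singleton_iff.2
      (sat_cm.1 hH t List.mem_cons_self)⟩

theorem le_of_idx {H K : Subgroup G} (h : IdxLe H K 1) : K ≤ H :=
  Subgroup.relIndex_eq_one.1 (by have := h.1; have := h.2; omega)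

end Words

section Coded
variable {G : Type*} [Group G] {φ : G → ℕ} {mul : ℕ → ℕ → ℕ} {one : ℕ}

/-- product with a shortcut -/
noncomputable def m1 (mul : ℕ → ℕ → ℕ) (one a b : ℕ) : ℕ :=
  cond (Nat.beq a one) b (cond (Nat.beq b one) a (mul a b))

theorem m1_eq (C : IsCode φ mul one) (a b : G) : m1 mul one (φ a) (φ b) = φ (a * b) := by
  unfold m1
  cases h : Nat.beq (φ a) one
  · cases h' : Nat.beq (φ b) one
    · exact C.map_mul a b
    · rw [(beq_one_iff C).1 h', mul_one]; rfl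
  · rw [(beq_one_iff C).1 h, one_mul]; rfl

/-- code of a tail -/
noncomputable def xT (mul : ℕ → ℕ → ℕ) (one c : ℕ) (l : List ℕ) : ℕ → ℕ :=
  List.rec (motive := fun _ => ℕ → ℕ) (fun a => a)
    (fun u _ ih a => force (m1 mul one a c) fun t => force (m1 mul one t u) ih) l

/-- code of a term -/
noncomputable def xC (mul : ℕ → ℕ → ℕ) (one c : ℕ) (l : List ℕ) : ℕ :=
  List.rec (motive := fun _ => ℕ) one (fun w l _ => xT mul one c l w) l

theorem xC_eq (C : IsCode φ mul one) {L : List ℕ} (hL : ∀ c ∈ L, Mem φ ⊤ c) (c : G)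
    (t : List (List ℕ)) : xC mul one (φ c) (t.map (evC mul one L)) = φ (evX (lt φ L) c t) := by
  cases t with
  | nil => exact C.map_one.symm
  | cons w l =>
    change xT mul one (φ c) (l.map _) (evC mul one L w) = _
    rw [evX, ← code_ev C hL]
    generalize ev (lt φ L) w = a
    induction l generalizing a with
    | nil => rw [evT, mul_one]; rfl
    | cons u l ih =>
      change (force (m1 mul one (φ a) (φ c)) fun t => force (m1 mul one t (evC mul one L u))
        (xT mul one (φ c) (l.map _))) = _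
      rw [force_eq, force_eq, ← code_ev C hL, m1_eq C, m1_eq C, ih, evT]
      simp only [mul_assoc]

/-- evaluate a list of pairs -/
noncomputable def forceP {β : Type} (l : EL) : (EL → β) → β :=
  List.rec (motive := fun _ => (EL → β) → β) (fun k => k [])
    (fun p _ ih k => forceL p.1 fun a => forceL p.2 fun b => ih fun t => k ((a, b) :: t)) l

theorem forceP_eq {β : Type} (l : EL) (k : EL → β) : forceP l k = k l := by
  induction l generalizing k with
  | nil => rfl
  | cons p l ih =>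
    change (forceL p.1 fun a => forceL p.2 fun b => forceP l fun t => k ((a, b) :: t)) = _
    rw [forceL_eq, forceL_eq, ih]

/-- evaluate a list of lists of pairs -/
noncomputable def forcePP {β : Type} (l : List EL) : (List EL → β) → β :=
  List.rec (motive := fun _ => (List EL → β) → β) (fun k => k [])
    (fun p _ ih k => forceP p fun a => ih fun t => k (a :: t)) l

theorem forcePP_eq {β : Type} (l : List EL) (k : List EL → β) : forcePP l k = k l := by
  induction l generalizing k with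
  | nil => rfl
  | cons p l ih =>
    change (forceP p fun a => forcePP l fun t => k (a :: t)) = _
    rw [forceP_eq, ih]

/-- codes of equations -/
noncomputable def cX (mul : ℕ → ℕ → ℕ) (one : ℕ) (L : List ℕ) (H : XL) : EL :=
  H.map fun e => (e.1.map (evC mul one L), e.2.map (evC mul one L))

/-- test of equations -/
noncomputable def satB (mul : ℕ → ℕ → ℕ) (one c : ℕ) (H : EL) : Bool :=
  lall (fun e => Nat.beq (xC mul one c e.1) (xC mul one c e.2)) H

theorem satB_iff (C : IsCode φ mul one) {L : List ℕ} (hL : ∀ c ∈ L, Mem φ ⊤ c) {c : G} {H : XL} :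
    satB mul one (φ c) (cX mul one L H) = true ↔ Sat (lt φ L) c H := by
  simp only [satB, cX, lall_iff, List.forall_mem_map, xC_eq C hL, beq_iff C, Sat]

/-- test of a table -/
noncomputable def tabB (mul : ℕ → ℕ → ℕ) (one : ℕ) (L E : List ℕ) (H : XL) (ws : List (List ℕ))
    (A : List XL) : Bool :=
  forceP (cX mul one L H) fun H => forceL (ws.map (evC mul one L)) fun Z =>
    forcePP (A.map (cX mul one L)) fun A => lall (fun c => force c fun c =>
      !satB mul one c H || memL c Z || lany (satB mul one c) A) E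

theorem tab_of (C : IsCode φ mul one) {L : List ℕ} (hL : ∀ c ∈ L, Mem φ ⊤ c) {W : List (List ℕ)}
    {E : List ℕ} (hE : ∀ c ∈ CE.gen (lt φ L) W, φ c ∈ E) {H : XL} {ws : List (List ℕ)}
    {A : List XL} (h : tabB mul one L E H ws A = true) : Tab (lt φ L) W H ws A := fun c hc hH => by
  rw [tabB, forceP_eq, forceL_eq, forcePP_eq, lall_iff] at h
  have := h _ (hE c hc)
  rw [force_eq, (satB_iff C hL).2 hH, Bool.not_true, Bool.false_or, Bool.or_eq_true] at this
  refine this.imp (exists_of_memL C hL) fun h => ?_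
  obtain ⟨_, ha, h⟩ := lany_iff.1 h
  obtain ⟨a, ha', rfl⟩ := List.mem_map.1 ha
  exact ⟨a, ha', (satB_iff C hL).1 h⟩

theorem tabM_of (C : IsCode φ mul one) {L : List ℕ} (hL : ∀ c ∈ L, Mem φ ⊤ c)
    {W W' : List (List ℕ)} {E Z : List ℕ} (hE : ∀ c ∈ CE.gen (lt φ L) W, φ c ∈ E)
    (hZ : ∀ c ∈ Z, Mem φ (CE.gen (lt φ L) W') c) {H : XL}
    (h : forceP (cX mul one L H) (fun H => covB (fun c => satB mul one c H) E Z) = true) :
    TabM (lt φ L) W H W' := fun c hc hH => by
  rw [forceP_eq] at h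
  exact C.mem_iff.1 (hZ _ (mem_of_covB hE h hc ((satB_iff C hL).2 hH)))

theorem dis_of (C : IsCode φ mul one) {L : List ℕ} (hL : ∀ c ∈ L, Mem φ ⊤ c) {ws : List (List ℕ)}
    (P : ℕ) (h : distinctOn (fun c => Nat.mod c P) (ws.map (evC mul one L)) 0 = true) :
    Dis (lt φ L) ws := by
  refine List.Nodup.of_map φ ?_
  have := (distinctOn_spec h).1.of_map
  rwa [List.map_map, show φ ∘ ev (lt φ L) = evC mul one L from funext (code_ev C hL)]

theorem nes_of (C : IsCode φ mul one) {L : List ℕ} (hL : ∀ c ∈ L, Mem φ ⊤ c) {N : List (List ℕ)}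
    (h : nesB mul one L (N.map fun r => (r, [])) = true) : Nes (lt φ L) N :=
  fun _ hr => ev_ne_of_nesB C hL h _ (List.mem_map_of_mem hr)

theorem out_of (C : IsCode φ mul one) {L : List ℕ} (hL : ∀ c ∈ L, Mem φ ⊤ c) {W ws : List (List ℕ)}
    {E : List ℕ} (hE : ∀ c ∈ CE.gen (lt φ L) W, φ c ∈ E)
    (h : forceL E (fun E => lall (fun w => force (evC mul one L w) fun c => !memL c E) ws) = true) :
    Out (lt φ L) W ws := fun w hw hm => by
  rw [forceL_eq, lall_iff] at h
  have := h w hw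
  rw [force_eq, ← code_ev C hL, memL_iff.2 (hE _ hm)] at this
  cases this

/-- no large subgroup lies in `Z` -/
noncomputable def bigB (mul : ℕ → ℕ → ℕ) (Z X : List ℕ) (n : ℕ) : Bool :=
  forceL Z fun Z => forceL X fun X => Nat.blt X.length n && lall (fun v => memL v X ||
    Nat.blt (Z.filter fun k => force (mul v k) fun m => memL m Z).length n) Z

theorem noBig_of (C : IsCode φ mul one) {L : List ℕ} (hL : ∀ c ∈ L, Mem φ ⊤ c)
    {ws : List (List ℕ)} (X : List (List ℕ)) {n : ℕ}
    (h : bigB mul (ws.map (evC mul one L)) (X.map (evC mul one L)) n = true) :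
    NoBig (lt φ L) ws n := fun V hV => by
  rw [bigB, forceL_eq, forceL_eq, Bool.and_eq_true, lall_iff, Nat.blt_eq] at h
  have hZ : ∀ v ∈ V, φ v ∈ ws.map (evC mul one L) := fun v hv => by
    obtain ⟨w, hw, rfl⟩ := hV v hv
    exact code_ev C hL w ▸ List.mem_map_of_mem hw
  by_cases h1 : ∀ v ∈ V, φ v ∈ X.map (evC mul one L)
  · exact (card_le_of_complete C h1).trans_lt h.1
  push Not at h1
  obtain ⟨v, hv, h1⟩ := h1
  have := h.2 _ (hZ v hv)
  rw [Bool.or_eq_true, memL_iff, Nat.blt_eq] at this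
  refine (card_le_of_complete C fun k hk => List.mem_filter.2 ⟨hZ k hk, ?_⟩).trans_lt
    (this.resolve_left h1)
  rw [force_eq, C.map_mul, memL_iff]
  exact hZ _ (V.mul_mem hv hk)

end Coded

section Iso
variable {M G : Type*} [Group M] [Group G] {g : ℕ → M} {g' : ℕ → G} {S : List ℕ}
  {Γ : Subgroup (M × G)}

theorem card_fst (h : Gr Γ) : Nat.card (Γ.map (MonoidHom.fst M G)) = Nat.card Γ := by
  refine (Nat.card_congr (Equiv.ofBijective _ ⟨fun x y e => ?_,
    MonoidHom.subgroupMap_surjective _ Γ⟩)).symm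
  have e1 : x.1.1 = y.1.1 := congrArg Subtype.val e
  exact Subtype.ext (Prod.ext e1 (h.eq' x.2 y.2 e1))

theorem card_snd (h : Gr' Γ) : Nat.card (Γ.map (MonoidHom.snd M G)) = Nat.card Γ := by
  refine (Nat.card_congr (Equiv.ofBijective _ ⟨fun x y e => ?_,
    MonoidHom.subgroupMap_surjective _ Γ⟩)).symm
  have e1 : x.1.2 = y.1.2 := congrArg Subtype.val e
  exact Subtype.ext (Prod.ext (h.eq' x.2 y.2 e1) e1)

theorem gr'_of_card [Finite G] {n : ℕ} (h : CardLe Γ n)
    (h1 : n ≤ Nat.card (Γ.map (MonoidHom.snd M G))) : Gr' Γ := fun a ha => by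
  have := h.1
  have hb := (MonoidHom.subgroupMap_surjective (MonoidHom.snd M G) Γ).bijective_of_nat_card_le
    (h.2.trans h1)
  exact congrArg (fun x : Γ => x.1.1) (hb.1 (a₁ := ⟨_, ha⟩) (a₂ := 1) (Subtype.ext rfl))

/-- the letters `S` on both sides generate isomorphic groups -/
def Iso (g : ℕ → M) (g' : ℕ → G) (S : List ℕ) : Prop :=
  ∃ Γ : Subgroup (M × G), Gr Γ ∧ Gr' Γ ∧ ∀ a ∈ S, (g a, g' a) ∈ Γ

theorem pw (h : ∀ a ∈ S, (g a, g' a) ∈ Γ) {w : List ℕ} (hw : sb S w = true) :
    (ev g w, ev g' w) ∈ Γ := pev fun a ha => h a (sb_iff.1 hw a ha)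

theorem pX (h : ∀ a ∈ S, (g a, g' a) ∈ Γ) {c : M} {c' : G} (hc : (c, c') ∈ Γ)
    {t : List (List ℕ)} (ht : sbL S t = true) : (evX g c t, evX g' c' t) ∈ Γ := by
  cases t with
  | nil => exact pone
  | cons w l =>
    rw [sbL, lall_iff, List.forall_mem_cons] at ht
    refine pmul (pw h ht.1) ?_
    replace ht := ht.2
    induction l with
    | nil => exact pone
    | cons u l ih =>
      rw [List.forall_mem_cons] at ht
      exact pmul (pmul hc (pw h ht.1)) (ih ht.2)

theorem le_pr (h : ∀ a ∈ S, (g a, g' a) ∈ Γ) {W : List (List ℕ)} (hW : sbL S W = true) :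
    CE.gen (pr g g') W ≤ Γ := gen_le_sb (g := pr g g') h hW

theorem Eqs.prod {E : EL} (h : Eqs g E) (h' : Eqs g' E) : Eqs (pr g g') E :=
  fun e he => by rw [ev_pr, ev_pr, h e he, h' e he]

theorem inv_pr {iv : ℕ → ℕ} (h : ∀ a, g (iv a) = (g a)⁻¹) (h' : ∀ a, g' (iv a) = (g' a)⁻¹) (a : ℕ) :
    pr g g' (iv a) = (pr g g' a)⁻¹ := Prod.ext (h a) (h' a)

theorem lift_snd {W : List (List ℕ)} {c' : G} (hc : c' ∈ CE.gen g' W) :
    ∃ c, (c, c') ∈ CE.gen (pr g g') W := by
  obtain ⟨⟨c, _⟩, h, rfl⟩ := (map_snd_gen g g' W).ge hc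
  exact ⟨c, h⟩

theorem snd_mem {W : List (List ℕ)} {a : M} {c : G} (h : (a, c) ∈ CE.gen (pr g g') W) :
    c ∈ CE.gen g' W := (map_snd_gen g g' W).le ⟨_, h, rfl⟩

namespace Iso
variable (h : Iso g g' S)
include h

theorem eqs {E : EL} (hE : Eqs g E) (hs : sbE S E = true := by decide +kernel) : Eqs g' E :=
  fun e he => by
  obtain ⟨Γ, h1, -, h3⟩ := h
  have := Bool.and_eq_true_iff.1 (lall_iff.1 hs e he)
  exact h1.eq' (pw h3 this.1) (pw h3 this.2) (hE e he)

theorem nes {N : List (List ℕ)} (hN : Nes g N) (hs : sbL S N = true := by decide +kernel) :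
    Nes g' N := fun r hr e => by
  obtain ⟨Γ, -, h2, h3⟩ := h
  exact hN r hr (h2 _ (e ▸ pw h3 (lall_iff.1 hs r hr)))

theorem dis {N : List (List ℕ)} (hN : Dis g N) (hs : sbL S N = true := by decide +kernel) :
    Dis g' N := by
  obtain ⟨Γ, -, h2, h3⟩ := h
  rw [Dis, List.Nodup, List.pairwise_map] at hN ⊢
  exact hN.imp_of_mem fun hu hv h e =>
    h (h2.eq' (pw h3 (lall_iff.1 hs _ hu)) (pw h3 (lall_iff.1 hs _ hv)) e)

theorem tab {W : List (List ℕ)} {H : XL} {ws : List (List ℕ)} {A : List XL} (hT : Tab g W H ws A)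
    (hs : (sbL S W && sbX S H && sbL S ws && lall (sbX S) A) = true := by decide +kernel) :
    Tab g' W H ws A := fun c' hc' hH => by
  obtain ⟨Γ, h1, h2, h3⟩ := h
  simp only [Bool.and_eq_true] at hs
  obtain ⟨c, hc⟩ := lift_snd (g := g) hc'
  have hp := le_pr h3 hs.1.1.1 hc
  refine (hT c (fst_mem hc) fun e he => ?_).imp (fun ⟨w, hw, e⟩ => ⟨w, hw,
    h1.eq' hp (pw h3 (lall_iff.1 hs.1.2 w hw)) e⟩) fun ⟨a, ha, h⟩ => ⟨a, ha, fun e he => ?_⟩
  · have := Bool.and_eq_true_iff.1 (lall_iff.1 hs.1.1.2 e he)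
    exact h2.eq' (pX h3 hp this.1) (pX h3 hp this.2) (hH e he)
  · have := Bool.and_eq_true_iff.1 (lall_iff.1 (lall_iff.1 hs.2 a ha) e he)
    exact h1.eq' (pX h3 hp this.1) (pX h3 hp this.2) (h e he)

theorem tabM {W W' : List (List ℕ)} {H : XL} (hT : TabM g W H W')
    (hs : (sbL S W && sbX S H && sbL S W') = true := by decide +kernel) :
    TabM g' W H W' := fun c' hc' hH => by
  obtain ⟨Γ, h1, h2, h3⟩ := h
  simp only [Bool.and_eq_true] at hs
  obtain ⟨c, hc⟩ := lift_snd (g := g) hc'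
  have hp := le_pr h3 hs.1.1 hc
  refine snd_mem (h1.mem_gen (le_pr h3 hs.2) (hT c (fst_mem hc) fun e he => ?_) hp)
  have := Bool.and_eq_true_iff.1 (lall_iff.1 hs.1.2 e he)
  exact h2.eq' (pX h3 hp this.1) (pX h3 hp this.2) (hH e he)

theorem gr {W : List (List ℕ)} (hs : sbL S W = true := by decide +kernel) :
    Gr (CE.gen (pr g g') W) ∧ Gr' (CE.gen (pr g g') W) := by
  obtain ⟨Γ, h1, h2, h3⟩ := h
  exact ⟨h1.mono (le_pr h3 hs), fun a ha => h2 a (le_pr h3 hs ha)⟩

theorem card {W : List (List ℕ)} {n : ℕ} (hn : Nat.card (CE.gen g W) = n)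
    (hs : sbL S W = true := by decide +kernel) : Nat.card (CE.gen g' W) = n := by
  rw [← map_snd_gen g, card_snd (h.gr hs).2, ← card_fst (h.gr hs).1, map_fst_gen, hn]

theorem cardLe [Finite M] [Finite G] {W : List (List ℕ)} {n : ℕ} (hn : Nat.card (CE.gen g W) = n)
    (hs : sbL S W = true := by decide +kernel) : CardLe (CE.gen (pr g g') W) n :=
  ⟨inferInstance, by rw [← card_fst (h.gr hs).1, map_fst_gen, hn]⟩

theorem pair {W : List (List ℕ)} {v : List ℕ} (hv : ev g v ∈ CE.gen g W) (hW : sbL S W = true)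
    (hs : sb S v = true) : (ev g v, ev g' v) ∈ CE.gen (pr g g') W := by
  obtain ⟨Γ, h1, -, h3⟩ := h
  exact h1.mem_gen (le_pr h3 hW) hv (pw h3 hs)

theorem mems {W vs : List (List ℕ)} (hv : Mems g W vs)
    (hs : (sbL S W && sbL S vs) = true := by decide +kernel) : Mems g' W vs := fun v hv' =>
  have := Bool.and_eq_true_iff.1 hs
  snd_mem (h.pair (hv v hv') this.1 (lall_iff.1 this.2 v hv'))

theorem out {W vs : List (List ℕ)} (hv : Out g W vs)
    (hs : (sbL S W && sbL S vs) = true := by decide +kernel) : Out g' W vs := fun v hv' hm => by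
  obtain ⟨Γ, -, h2, h3⟩ := h
  rw [Bool.and_eq_true] at hs
  obtain ⟨c, hc⟩ := lift_snd (g := g) hm
  exact hv v hv' (h2.eq (le_pr h3 hs.1 hc) (pw h3 (lall_iff.1 hs.2 v hv')) ▸ fst_mem hc)

theorem noBig {ws : List (List ℕ)} {n : ℕ} (hn : NoBig g ws n)
    (hs : sbL S ws = true := by decide +kernel) : NoBig g' ws n := fun V hV => by
  obtain ⟨Γ, h1, h2, h3⟩ := h
  have e : (Γ ⊓ V.comap (MonoidHom.snd M G)).map (MonoidHom.snd M G) = V := by
    refine le_antisymm (fun _ ⟨_, hp, e⟩ => e ▸ hp.2) fun v hv => ?_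
    obtain ⟨w, hw, rfl⟩ := hV v hv
    exact ⟨_, ⟨pw h3 (lall_iff.1 hs w hw), hv⟩, rfl⟩
  rw [← e, card_snd (Γ := Γ ⊓ _) fun a ha => h2 a ha.1, ← card_fst (h1.mono inf_le_left)]
  refine hn _ fun _ ⟨p, hp, e⟩ => ?_
  obtain ⟨w, hw, e'⟩ := hV _ hp.2
  exact ⟨w, hw, e ▸ h2.eq' hp.1 (pw h3 (lall_iff.1 hs w hw)) e'⟩

theorem add {E : EL} (h1 : Eqs g E) (h2 : Eqs g' E) (S' : List ℕ)
    (hs : lall (fun a => memL a S || lany (fun e => leq e.1 [a] && sb S e.2) E) S' = true := by
      decide +kernel) : Iso g g' S' := by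
  obtain ⟨Γ, h3, h4, h5⟩ := h
  refine ⟨Γ, h3, h4, fun a ha => ?_⟩
  rcases Bool.or_eq_true_iff.1 (lall_iff.1 hs a ha) with h | h
  · exact h5 a (memL_iff.1 h)
  · obtain ⟨e, he, h⟩ := lany_iff.1 h
    have := Bool.and_eq_true_iff.1 h
    have e1 := h1 e he
    have e2 := h2 e he
    rw [eq_of_leq this.1, ev_singleton] at e1 e2
    exact e1 ▸ e2 ▸ pw h5 this.2

end Iso

theorem iso_of_card [Finite M] [Finite G] {n : ℕ} (h : CardLe (CE.gen (pr g g') (lw S)) n)
    (h1 : n ≤ Nat.card (CE.gen g (lw S))) (h2 : n ≤ Nat.card (CE.gen g' (lw S))) : Iso g g' S :=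
  ⟨_, gr_of_card h (by rwa [map_fst_gen]), gr'_of_card h (by rwa [map_snd_gen]),
    mem_lw (g := pr g g')⟩

/-- the equations `u t = v u` -/
def orbE (t : List ℕ) (P : EL) : EL := P.map fun p => (p.1 ++ t, p.2 ++ p.1)

theorem le_card_orb' [Finite G] {t : List ℕ} {P : EL} {W : List (List ℕ)} {m : ℕ} {K : Subgroup G}
    (h1 : Eqs g' (orbE t P)) (h2 : Dis g' (P.map Prod.snd)) (h3 : Eqs g' (cms t W))
    (h4 : Nat.card (CE.gen g' W) = m) (h5 : CE.gen g' W ≤ K) (h6 : ∀ p ∈ P, ev g' p.1 ∈ K) :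
    P.length * m ≤ Nat.card K := by
  refine le_card_of_cls (z := ev g' t) ?_ (le_inf h5 (gen_le_iff.2 fun w hw =>
    Subgroup.mem_centralizer_singleton_iff.2 (h3.cms w hw).symm)) h4.ge
  rw [← List.length_map Prod.snd, ← h2.ncard (S := {c | ∃ w ∈ P.map Prod.snd, c = ev g' w})
    fun _ => Iff.rfl]
  refine Set.ncard_le_ncard ?_ (Set.toFinite _)
  rintro _ ⟨_, hw, rfl⟩
  obtain ⟨p, hp, rfl⟩ := List.mem_map.1 hw
  have := h1 _ (List.mem_map_of_mem hp)
  simp only [ev_append] at this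
  exact ⟨_, h6 p hp, by rw [this]; group⟩

theorem le_card_orb [Finite G] {t : List ℕ} {P : EL} {W : List (List ℕ)} {m : ℕ}
    (h1 : Eqs g' (orbE t P)) (h2 : Dis g' (P.map Prod.snd)) (h3 : Eqs g' (cms t W))
    (h4 : Nat.card (CE.gen g' W) = m) (h5 : sbL S W = true) (h6 : sbL S (P.map Prod.fst) = true) :
    P.length * m ≤ Nat.card (CE.gen g' (lw S)) :=
  le_card_orb' h1 h2 h3 h4 (gen_le_sb mem_lw h5) fun _ hp =>
    ev_mem_sb mem_lw (lall_iff.1 h6 _ (List.mem_map_of_mem hp))

/-- data of an orbit -/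
structure Orb (g : ℕ → M) (t : List ℕ) (P : EL) (W : List (List ℕ)) (m : ℕ) : Prop where
  eq : Eqs g (orbE t P)
  dis : Dis g (P.map Prod.snd)
  cm : Eqs g (cms t W)
  card : Nat.card (CE.gen g W) = m

/-- Extension of an isomorphism by a coset enumeration. -/
theorem Iso.step [Finite M] [Finite G] {S₀ S₁ : List ℕ} (h : Iso g g' S₀) (h' : Iso g g' S₁)
    {t : List ℕ} {P : EL} {W : List (List ℕ)} {m : ℕ} (O : Orb g t P W m) {W' : List (List ℕ)}
    {n m' : ℕ} (hc : Nat.card (CE.gen g W') = m')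
    (hi : IdxLe (CE.gen (pr g g') W') (CE.gen (pr g g') (lw S)) n)
    (hs : (Nat.ble (n * m') (P.length * m) && sbL S₁ W' && sbL S W && sbL S (P.map Prod.fst) &&
      sbE S (orbE t P) && sbL S₀ (P.map Prod.snd) && sbE S₀ (cms t W) && sbL S₀ W) = true := by
      decide +kernel) : Iso g g' S := by
  simp only [Bool.and_eq_true, Nat.ble_eq] at hs
  obtain ⟨⟨⟨⟨⟨⟨⟨s1, s2⟩, s3⟩, s4⟩, s5⟩, s6⟩, s7⟩, s8⟩ := hs
  have hb := hi.cardLe (h'.cardLe hc s2) s1
  have h1 := le_card_orb O.eq O.dis O.cm O.card s3 s4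
  have hg := gr_of_card hb (by rwa [map_fst_gen])
  refine iso_of_card hb h1 (le_card_orb (fun e he => ?_) (h.dis O.dis s6) (h.eqs O.cm s7)
    (h.card O.card s8) s3 s4)
  have := Bool.and_eq_true_iff.1 (lall_iff.1 s5 e he)
  exact hg.eq' (pw (mem_lw (g := pr g g')) this.1) (pw (mem_lw (g := pr g g')) this.2) (O.eq e he)

/-- the letters `S` act in the same way on the groups generated by `W` -/
structure Act (g : ℕ → M) (g' : ℕ → G) (W : List (List ℕ)) (S : List ℕ) : Prop where
  gr : Gr (CE.gen (pr g g') W)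
  ag : ∀ a ∈ S, Ag (CE.gen (pr g g') W) (CE.gen g W) (g a) (g' a)

theorem Iso.act (h : Iso g g' S) {W : List (List ℕ)} {S' : List ℕ} (hn : Nrm g W (lw S'))
    (hs : (sbL S W && sb S S') = true := by decide +kernel) : Act g g' W S' := by
  rw [Bool.and_eq_true] at hs
  refine ⟨(h.gr hs.1).1, fun a ha => ?_⟩
  obtain ⟨Γ, h1, -, h3⟩ := h
  have := hn _ (List.mem_map_of_mem (f := fun a => [a]) ha)
  rw [ev_singleton] at this
  refine Ag.transfer h1 (h1.mono (le_pr h3 hs.1)) (fun k hk => ?_)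
    (Ag.of_mem (h3 a (sb_iff.1 hs.2 a ha)) this)
  obtain ⟨k', -, hk'⟩ := exists_pair (g' := g') (K' := ⊤) (fun _ _ => trivial) hk
  exact ⟨k', le_pr h3 hs.1 hk', hk'⟩

theorem Act.app {W : List (List ℕ)} {S' : List ℕ} (h : Act g g' W S) (h' : Act g g' W S') :
    Act g g' W (S ++ S') := ⟨h.gr, fun a ha => (List.mem_append.1 ha).elim (h.ag a) (h'.ag a)⟩

theorem Act.wd {W : List (List ℕ)} (h : Act g g' W S) {w : List ℕ} (hw : sb S w = true) :
    Ag (CE.gen (pr g g') W) (CE.gen g W) (ev g w) (ev g' w) :=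
  Ag.ev fun a ha => h.ag a (sb_iff.1 hw a ha)

theorem Act.nrm {W : List (List ℕ)} (h : Act g g' W S) {w : List ℕ}
    (hw : sb S w = true := by decide +kernel) :
    ∀ k ∈ CE.gen g' W, ev g' w * k * (ev g' w)⁻¹ ∈ CE.gen g' W := fun _ hk =>
  let ⟨_, hc⟩ := lift_snd (g := g) hk; snd_mem (h.wd hw _ (fst_mem hc) _ hc).2

theorem Act.add {W : List (List ℕ)} (h : Act g g' W S) {E : EL} (h1 : Eqs g E) (h2 : Eqs g' E)
    (S' : List ℕ) (hs : lall (fun a => memL a S || lany (fun e => leq e.1 [a] && sb S e.2) E) S' =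
      true := by decide +kernel) : Act g g' W S' := by
  refine ⟨h.gr, fun a ha => ?_⟩
  rcases Bool.or_eq_true_iff.1 (lall_iff.1 hs a ha) with h' | h'
  · exact h.ag a (memL_iff.1 h')
  · obtain ⟨e, he, h'⟩ := lany_iff.1 h'
    have := Bool.and_eq_true_iff.1 h'
    have e1 := h1 e he
    have e2 := h2 e he
    rw [eq_of_leq this.1, ev_singleton] at e1 e2
    exact e1 ▸ e2 ▸ h.wd this.2

/-- a relator of the model centralises -/
theorem Act.comm {W : List (List ℕ)} (h : Act g g' W S) {w : List ℕ} (e : ev g w = 1)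
    (hw : sb S w = true := by decide +kernel) :
    ∀ u ∈ W, ev g' w * ev g' u = ev g' u * ev g' w := fun _ hu =>
  Ag.comm h.gr (e ▸ h.wd hw) (ev_mem_gen hu) (pair_gen hu)

/-- equations `u v = v' u` with `v`, `v'` in the group acted on -/
theorem Act.eqs {W : List (List ℕ)} (h : Act g g' W S) {S₀ : List ℕ} (h₀ : Iso g g' S₀)
    {P : List (List ℕ × List ℕ × List ℕ)} (h1 : Mems g W (P.map fun p => p.2.1))
    (h2 : Eqs g (P.map fun p => (p.1 ++ p.2.1, p.2.2 ++ p.1)))
    (hs : (sbL S₀ W && lall (fun p => sb S p.1 && sb S₀ p.2.1 && sb S₀ p.2.2) P) = true := by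
      decide +kernel) : Eqs g' (P.map fun p => (p.1 ++ p.2.1, p.2.2 ++ p.1)) := fun e he => by
  obtain ⟨p, hp, rfl⟩ := List.mem_map.1 he
  rw [Bool.and_eq_true] at hs
  have s := lall_iff.1 hs.2 p hp
  simp only [Bool.and_eq_true] at s
  have m := h1 _ (List.mem_map_of_mem hp)
  have e := h2 _ (List.mem_map_of_mem hp)
  simp only [ev_append] at e ⊢
  obtain ⟨a1, a2⟩ := h.wd s.1.1 _ m _ (h₀.pair m hs.1 s.1.2)
  rw [e, mul_inv_cancel_right] at a1 a2
  rw [← h.gr.eq a2 (h₀.pair a1 hs.1 s.2), inv_mul_cancel_right]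

/-- cubes of products `v u` with `v` in the group acted on -/
theorem Act.cube {W : List (List ℕ)} (h : Act g g' W S) {S₀ : List ℕ} (h₀ : Iso g g' S₀)
    {u v : List ℕ} (m : ev g v ∈ CE.gen g W) (e1 : ev g u ^ 3 = 1) (e2 : ev g' u ^ 3 = 1)
    (e3 : ev g (v ++ u) ^ 3 = 1) (hs : (sbL S₀ W && sb S u && sb S₀ v) = true := by
      decide +kernel) : ev g' (v ++ u) ^ 3 = 1 := by
  simp only [Bool.and_eq_true] at hs
  have p := h₀.pair m hs.1.1 hs.2
  obtain ⟨a1, a2⟩ := h.wd hs.1.2 _ m _ p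
  have p2 := pmul (pmul p a2) (h.wd hs.1.2 _ a1 _ a2).2
  have key : ∀ a b : M, (a * b) ^ 3 =
    a * (b * a * b⁻¹) * (b * (b * a * b⁻¹) * b⁻¹) * b ^ 3 := fun a b => by
      simp only [pow_succ, pow_zero]; group
  rw [ev_append, key, e1, mul_one] at e3
  rw [ev_append, show (ev g' v * ev g' u) ^ 3 = ev g' v * (ev g' u * ev g' v * (ev g' u)⁻¹) *
    (ev g' u * (ev g' u * ev g' v * (ev g' u)⁻¹) * (ev g' u)⁻¹) * ev g' u ^ 3 by
      simp only [pow_succ, pow_zero]; group, e2, mul_one]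
  exact h.gr _ (e3 ▸ p2)

end Iso

end CL.Rec.M3
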