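/- Recognition of the third Conway group by `2 × M12`: words and the facts about two models.
The letters 0..14 are those of a presentation of `M12`, 15 is the involution `e`, 16 is an involution
`f` with `[e, f] = z`; the others are defined by `DF`. -/
import Cfsg.Agent.REC.M3Base
import Cfsg.Agent.REC.E32.M12P

set_option autoImplicit false

namespace CL.Rec.M3

open CL.K CL.CG CL.CE CL.A10

/-- the inverse letters -/
def ivl : List ℕ := [1,0,3,2,5,4,7,6,9,8,11,10,13,12,14,15,16,17,18,19,20,21,22,23,25,24,27,26,29,28]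

/-- the inverse letters -/
def iv (a : ℕ) : ℕ := ivl.getD a a

/-- the words of a polycyclic sequence -/
abbrev fs (s : List (List ℕ × ℕ)) : List (List ℕ) := s.map Prod.fst

/-- the subgroup generated by a polycyclic sequence -/
abbrev pg {M : Type*} [Group M] (g : ℕ → M) (s : List (List ℕ × ℕ)) : Subgroup M := CE.gen g (fs s)

/-- the relations of `2 × M12` -/
def E0 : EL := E32.M12P.Rels.map (fun r => (r, [])) ++ cms [15] (lw (List.range 15))

/-- the definitions of the letters -/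
def DF : EL := [([17], [8,20,9]), ([18], [10,8]), ([19], [2,6]), ([20], [12,16,13]), ([21], [0,0]),
  ([22], [0,4]), ([23], [0,6]), ([24], [8,20,18,9]), ([25], [8,18,20,9]),
  ([26], [24,12,24,13,24,13,24,12,24,12,24,13,24,13,24,12,24,12,24,13,24,13,24,12,24,12,24,13,24,13,24,12]),
  ([27], [13,25,12,25,12,25,13,25,13,25,12,25,12,25,13,25,13,25,12,25,12,25,13,25,13,25,12,25,12,25,13,25]),
  ([28], [19,20,12,24,13,13,24,12,12,24,13,13,24,12,12,24,13,13,24,12,12,24,13,13,24,12,20,19]),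
  ([29], [19,20,13,25,12,12,25,13,13,25,12,12,25,13,13,25,12,12,25,13,13,25,12,12,25,13,20,19])]

/-- the letters as words in the first seventeen letters -/
def WS : List (List ℕ) := [[0], [1], [2], [3], [4], [5], [6], [7], [8], [9], [10], [11], [12], [13], [14], [15], [16],
  [8,12,16,13,9], [10,8], [2,6], [12,16,13], [0,0], [0,4], [0,6], [8,12,16,13,10,8,9],
  [8,10,8,12,16,13,9],
  [8,12,16,13,10,8,9,12,8,12,16,13,10,8,9,13,8,12,16,13,10,8,9,13,8,12,16,13,10,8,9,12,8,12,16,13,10,8,9,12,8,12,16,13,10,8,9,13,8,12,16,13,10,8,9,13,8,12,16,13,10,8,9,12,8,12,16,13,10,8,9,12,8,12,16,13,10,8,9,13,8,12,16,13,10,8,9,13,8,12,16,13,10,8,9,12,8,12,16,13,10,8,9,12,8,12,16,13,10,8,9,13,8,12,16,13,10,8,9,13,8,12,16,13,10,8,9,12],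
  [13,8,10,8,12,16,13,9,12,8,10,8,12,16,13,9,12,8,10,8,12,16,13,9,13,8,10,8,12,16,13,9,13,8,10,8,12,16,13,9,12,8,10,8,12,16,13,9,12,8,10,8,12,16,13,9,13,8,10,8,12,16,13,9,13,8,10,8,12,16,13,9,12,8,10,8,12,16,13,9,12,8,10,8,12,16,13,9,13,8,10,8,12,16,13,9,13,8,10,8,12,16,13,9,12,8,10,8,12,16,13,9,12,8,10,8,12,16,13,9,13,8,10,8,12,16,13,9],
  [2,6,12,16,13,12,8,12,16,13,10,8,9,13,13,8,12,16,13,10,8,9,12,12,8,12,16,13,10,8,9,13,13,8,12,16,13,10,8,9,12,12,8,12,16,13,10,8,9,13,13,8,12,16,13,10,8,9,12,12,8,12,16,13,10,8,9,13,13,8,12,16,13,10,8,9,12,12,16,13,2,6],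
  [2,6,12,16,13,13,8,10,8,12,16,13,9,12,12,8,10,8,12,16,13,9,13,13,8,10,8,12,16,13,9,12,12,8,10,8,12,16,13,9,13,13,8,10,8,12,16,13,9,12,12,8,10,8,12,16,13,9,13,13,8,10,8,12,16,13,9,12,12,8,10,8,12,16,13,9,13,12,16,13,2,6]]

/-- letters -/
def S16 : List ℕ := List.range 16

/-- the letters in the centraliser of `e` -/
def SB : List ℕ := [0,1,2,3,4,5,6,7,8,9,10,11,12,13,14,15,18,19,21,22,23]

/-- a Sylow subgroup of `M12` -/
def sL : List (List ℕ × ℕ) := [([23], 2), ([18], 2), ([0], 2), ([19], 2), ([22], 2), ([21], 2)]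

/-- a Sylow subgroup of the centraliser of `e` -/
def sS : List (List ℕ × ℕ) := [([23], 2), ([15], 2), ([18], 2), ([0], 2), ([19], 2), ([22], 2), ([21], 2)]

/-- the normaliser of the four-group -/
def sB : List (List ℕ × ℕ) := [([23], 2), ([12], 3), ([15], 2), ([18], 2), ([0], 2), ([19], 2), ([22], 2), ([21], 2)]

/-- the centraliser of `e`, `z` -/
def sC : List (List ℕ × ℕ) := [([18], 2), ([8], 3), ([15], 2), ([0], 2), ([2], 2), ([4], 2), ([6], 2), ([21], 2)]

/-- the group of order 256 -/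
def sR : List (List ℕ × ℕ) := [([20], 2), ([16], 2), ([15], 2), ([18], 2), ([0], 2), ([19], 2), ([22], 2), ([21], 2)]

/-- a group of order 512 -/
def sT1 : List (List ℕ × ℕ) := [([24], 2), ([20], 2), ([16], 2), ([15], 2), ([18], 2), ([0], 2), ([19], 2), ([22], 2),
  ([21], 2)]

/-- a Sylow subgroup -/
def sT : List (List ℕ × ℕ) := [([23], 2), ([24], 2), ([20], 2), ([16], 2), ([15], 2), ([18], 2), ([0], 2), ([19], 2),
  ([22], 2), ([21], 2)]

/-- the centraliser of the four-group -/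
def sK : List (List ℕ × ℕ) := [([24], 2), ([26], 3), ([28], 3), ([20], 2), ([16], 2), ([15], 2), ([18], 2), ([0], 2),
  ([19], 2), ([22], 2), ([21], 2)]

/-- a group of order 64 -/
def sO : List (List ℕ × ℕ) := [([0,24,23], 2), ([0,18,20], 2), ([16,15], 2), ([19], 2), ([22], 2), ([21], 2)]

/-- the four-group -/
def sU : List (List ℕ × ℕ) := [([22], 2), ([21], 2)]

/-- a group of order 128 -/
def sJ : List (List ℕ × ℕ) := [([16], 2), ([15], 2), ([0], 2), ([2], 2), ([4], 2), ([6], 2), ([21], 2)]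

/-- a group of order 1024 -/
def sM : List (List ℕ × ℕ) := [([23], 2), ([18], 2), ([0], 2), ([15], 2), ([17], 2), ([19], 2), ([20], 2), ([16], 2),
  ([22], 2), ([21], 2)]

/-- an elementary abelian group -/
def sW : List (List ℕ × ℕ) := [([20], 2), ([16], 2), ([22], 2), ([21], 2)]

/-- an elementary abelian group -/
def sV : List (List ℕ × ℕ) := [([19], 2), ([20], 2), ([16], 2), ([22], 2), ([21], 2)]

/-- an eight-group -/
def s3 : List (List ℕ × ℕ) := [([15,19], 2), ([21], 2), ([22], 2)]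

/-- the centre -/
def sZ : List (List ℕ × ℕ) := [([21], 2)]

/-- a group of order 32 -/
def sX : List (List ℕ × ℕ) := [([18,20], 2), ([15,16], 2), ([19], 2), ([22], 2), ([21], 2)]

/-- squares -/
def SQ0 : EL := [([8,10,8], [10]), ([10,10], []), ([2,6,2,6], []), ([0,0,0,0], []), ([0,4,0,4], []),
  ([0,6,0,6], [])]

/-- conjugation to the product with `z` -/
def AA : List XL := [[([[0], [1]], [[21], []])], [([[2], [3]], [[21], []])]]

/-- the centre -/
def Z4 : List (List ℕ) := [[], [15], [21], [15,21]]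

/-- the involutions -/
def I56 : List (List ℕ) := [[], [15], [18], [19], [21], [22], [23], [0,5], [0,7], [0,18], [0,19], [1,18], [1,19], [2,4],
  [2,5], [2,7], [2,22], [3,22], [4,18], [4,19], [4,23], [5,18], [5,19], [5,23], [15,18], [15,19],
  [15,21], [15,22], [15,23], [18,21], [18,22], [19,22], [0,5,15], [0,5,18], [0,5,19], [0,7,15],
  [0,15,18], [0,15,19], [1,15,18], [1,15,19], [2,4,15], [2,5,15], [2,7,15], [2,15,22], [3,15,22],
  [4,15,18], [4,15,19], [4,15,23], [5,15,18], [5,15,19], [5,15,23], [15,18,21], [15,18,22],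
  [15,19,22], [0,5,15,18], [0,5,15,19]]

/-- an eight-group -/
def F8 : List (List ℕ) := [[], [15], [21], [22], [15,21], [15,22], [21,22], [15,21,22]]

/-- conjugators -/
def U32 : List (List ℕ) := [[], [0], [2], [4], [6], [10], [19], [22], [23], [2,0], [10,0], [18,0], [19,0], [4,2], [18,2],
  [22,2], [6,4], [10,4], [18,4], [19,4], [23,4], [18,6], [19,10], [22,10], [23,10], [8,19],
  [18,19], [10,23], [18,23], [22,10,0], [23,10,0], [18,19,0]]

/-- the letters in the centraliser of `e`, `z` -/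
def SC1 : List ℕ := [0,1,2,3,4,5,6,7,8,9,10,15,18,19,21,22,23,11]

/-- the centraliser of `x` -/
def W12 : List (List ℕ) := [[], [8], [9], [21], [21,8], [21,9], [15], [15,8], [15,9], [15,21], [15,21,8], [15,21,9]]

/-- the first relations of `f` -/
def F12 : EL := [([16,16], []), ([16,15], [15,21,16]), ([16,8], [8,16]), ([16,9], [9,16]), ([16,21], [21,16])]

/-- rules -/
def R12 : EL := [([8,8], [9]), ([8,9], []), ([9,8], []), ([9,9], [8]), ([15,8], [8,15]), ([15,9], [9,15]),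
  ([15,15], []), ([21,8], [8,21]), ([21,9], [9,21]), ([21,15], [15,21]), ([21,21], []),
  ([10,15], [15,10]), ([10,21], [21,10]), ([10,8], [9,10]), ([10,9], [8,10]), ([10,10], []),
  ([0,15], [15,0]), ([0,21], [21,0]), ([4,15], [15,4]), ([4,21], [21,4]), ([0,0], [21]),
  ([4,4], [21]), ([4,5], [])]

/-- a template -/
def Hv : XL := [([[16], [16], []], [])]

/-- a template -/
def Hac : XL := [([[], [], []], [[21]]), ([[9], [8]], [[], [8], [9]]), ([[10], [10,8], [9]], [])]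

/-- rules -/
def RT : EL := [([8,8], [9]), ([8,9], []), ([9,8], []), ([9,9], [8]), ([15,8], [8,15]), ([15,9], [9,15]),
  ([15,15], []), ([21,8], [8,21]), ([21,9], [9,21]), ([21,15], [15,21]), ([21,21], []),
  ([10,15], [15,10]), ([10,21], [21,10]), ([10,10], []), ([0,15], [15,0]), ([0,21], [21,0]),
  ([4,15], [15,4]), ([4,21], [21,4]), ([0,0], [21]), ([4,4], [21]), ([4,5], [])]

/-- equations -/
def ET : EL := [([9,0,8], [0,8,0,9]), ([10,0,10,8,0,9], []), ([9,4,8], [4,8,4,9]), ([10,4,10,8,4,9], [])]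

/-- rules -/
def RB : EL := [([1], [0,0,0]), ([5], [4,4,4]), ([9], [8,8]), ([18], [10,8]), ([19], [8,0,4,8,8]),
  ([21], [0,0]), ([22], [0,4]), ([23], [0,8,4,8,8]), ([2], [8,0,8,8]), ([6], [8,4,8,8]),
  ([3], [8,0,0,0,8,8]), ([7], [8,4,4,4,8,8]), ([11], [10]), ([4,0], [0,4]), ([4,4], [0,0]),
  ([0,0,0,0], []), ([8,8,8], []), ([10,8,0,0], [0,0,10,8])]

/-- a confluent system -/
def KY : EL := [([0,0], [21]), ([0,1], []), ([0,21], [1]), ([1,0], []), ([1,1], [21]), ([1,21], [0]),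
  ([15,0], [0,15]), ([15,1], [1,15]), ([15,15], []), ([18,0], [1,18]), ([18,1], [0,18]),
  ([18,15], [15,18]), ([18,18], []), ([19,0], [1,19]), ([19,1], [0,19]), ([19,15], [15,19]),
  ([19,19], []), ([21,0], [1]), ([21,1], [0]), ([21,15], [15,21]), ([21,18], [18,21]),
  ([21,19], [19,21]), ([21,21], []), ([22,0], [0,22]), ([22,1], [1,22]), ([22,15], [15,22]),
  ([22,18], [18,22]), ([22,19], [19,22]), ([22,21], [21,22]), ([22,22], []), ([0,15,21], [1,15]),
  ([0,18,21], [1,18]), ([0,19,21], [1,19]), ([1,15,21], [0,15]), ([1,18,21], [0,18]),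
  ([1,19,21], [0,19]), ([18,19,18], [19,22]), ([18,19,22], [19,18]), ([19,18,19], [18,22]),
  ([19,18,22], [18,19]), ([0,15,18,21], [1,15,18]), ([0,15,19,21], [1,15,19]),
  ([0,18,19,21], [1,18,19]), ([0,19,18,21], [1,19,18]), ([1,15,18,21], [0,15,18]),
  ([1,15,19,21], [0,15,19]), ([1,18,19,21], [0,18,19]), ([1,19,18,21], [0,19,18]),
  ([18,19,21,22], [19,18,21]), ([19,18,21,22], [18,19,21]), ([0,15,18,19,21], [1,15,18,19]),
  ([0,15,19,18,21], [1,15,19,18]), ([1,15,18,19,21], [0,15,18,19]),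
  ([1,15,19,18,21], [0,15,19,18])]

/-- the action of `y` -/
def YR : EL := [([12,0], [18,19,12]), ([12,1], [19,18,12]), ([12,15], [15,12]), ([12,18], [19,12]),
  ([12,19], [0,18,12]), ([12,21], [22,12]), ([12,22], [21,22,12]), ([13,0], [1,19,18,13]),
  ([13,1], [0,18,19,13]), ([13,15], [15,13]), ([13,18], [0,18,13]), ([13,19], [18,13]),
  ([13,21], [21,22,13]), ([13,22], [21,13]), ([12,13], []), ([13,12], []), ([12,12], [13]),
  ([13,13], [12])]

/-- the action of `a d` -/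
def SG : EL := [([23,0], [0,23]), ([23,1], [1,23]), ([23,15], [15,23]), ([23,18], [0,18,22,23]),
  ([23,19], [19,21,23]), ([23,21], [21,23]), ([23,22], [21,22,23]), ([23,23], []),
  ([23,12,23], [13])]

/-- the cube of `f y` -/
def wp : List ℕ := [16,12,16,12,16,12]

/-- the basic relations of `f` -/
def E00 : EL := [([16,16], []), ([16,15], [15,21,16]), ([16,8], [8,16]), ([16,10], [10,16]), ([16,0], [0,16]),
  ([16,4], [4,16])]

/-- the action of `f` -/
def FR00 : EL := [([16,0], [0,16]), ([16,1], [1,16]), ([16,15], [15,21,16]), ([16,18], [18,16]),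
  ([16,19], [19,16]), ([16,21], [21,16]), ([16,22], [22,16]), ([16,16], []), ([16,23], [23,16])]

/-- the action of the cube -/
def HP00 : XL := [([[], [0]], [[0], []]), ([[], [18]], [[18], []]), ([[], [19]], [[19], []]),
  ([[], [22]], [[22], []])]

/-- candidates -/
def CP0 : List (List ℕ) := [[], [15], [21], [22], [21,22], [15,21], [15,22], [15,21,22]]

/-- the basic relations of `f` -/
def E01 : EL := [([16,16], []), ([16,15], [15,21,16]), ([16,8], [8,16]), ([16,10], [10,16]), ([16,0], [4,16]),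
  ([16,4], [0,16])]

/-- the action of `f` -/
def FR01 : EL := [([16,0], [1,22,16]), ([16,1], [0,22,16]), ([16,15], [15,21,16]), ([16,18], [18,16]),
  ([16,19], [19,16]), ([16,21], [21,16]), ([16,22], [22,16]), ([16,16], [])]

/-- the action of the cube -/
def HP01 : XL := [([[], [0]], [[0,22], []])]

/-- the basic relations of `f` -/
def E10 : EL := [([16,16], []), ([16,15], [15,21,16]), ([16,8], [8,16]), ([16,10], [21,10,16]),
  ([16,0], [0,16]), ([16,4], [4,16])]

/-- the action of `f` -/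
def FR10 : EL := [([16,0], [0,16]), ([16,1], [1,16]), ([16,15], [15,21,16]), ([16,18], [18,21,16]),
  ([16,19], [19,16]), ([16,21], [21,16]), ([16,22], [22,16]), ([16,16], []), ([16,23], [23,16])]

/-- the action of the cube -/
def HP10 : XL := [([[], [0]], [[1], []]), ([[], [18]], [[18,21,22], []]), ([[], [19]], [[19,21], []]),
  ([[], [22]], [[22], []])]

/-- candidates -/
def CP1 : List (List ℕ) := [[0,19], [1,19], [1,19,22], [0,19,22], [0,15,19], [1,15,19], [1,15,19,22], [0,15,19,22]]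

/-- the basic relations of `f` -/
def E11 : EL := [([16,16], []), ([16,15], [15,21,16]), ([16,8], [8,16]), ([16,10], [21,10,16]),
  ([16,0], [4,16]), ([16,4], [0,16])]

/-- the action of `f` -/
def FR11 : EL := [([16,0], [1,22,16]), ([16,1], [0,22,16]), ([16,15], [15,21,16]), ([16,18], [18,21,16]),
  ([16,19], [19,16]), ([16,21], [21,16]), ([16,22], [22,16]), ([16,16], [])]

/-- the action of the cube -/
def HP11 : XL := [([[], [0]], [[1,22], []])]

/-- a template -/
def Hq : XL := [([[12], [13]], [[16], [16]])]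

/-- non-trivial words -/
def NB : List (List ℕ) := [[9], [8], [21], [9,21], [8,21], [0,5], [22], [21,22]]

/-- the action of `k` -/
def KR0 : EL := [([20,0], [0,20]), ([20,1], [1,20]), ([20,15], [15,22,20]), ([20,18], [18,20]),
  ([20,19], [19,20]), ([20,21], [21,20]), ([20,22], [22,20]), ([20,20], [])]

/-- an orbit -/
def PD0 : EL := [([], [15]), ([18,20], [15,22]), ([0,15,16], [15,21]), ([18,20,0,15,16], [15,21,22])]

/-- an elementary abelian group -/
def W50 : List (List ℕ) := [[15,19], [21], [22], [18,20], [0,15,16]]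

/-- the action of `k` -/
def KR1 : EL := [([20,0], [0,22,20]), ([20,1], [1,22,20]), ([20,15], [15,22,20]), ([20,18], [18,22,20]),
  ([20,19], [19,22,20]), ([20,21], [21,20]), ([20,22], [22,20]), ([20,20], [])]

/-- an orbit -/
def PD1 : EL := [([], [15]), ([20], [15,22]), ([0,15,16], [15,21]), ([20,0,15,16], [15,21,22])]

/-- an elementary abelian group -/
def W51 : List (List ℕ) := [[15,19], [21], [22], [20], [0,15,16]]

/-- rules -/
def XN : EL := [([12,21], [22,12]), ([8,22], [19,8]), ([8,15], [15,8]), ([12,15], [15,12]), ([22,15], [15,22]),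
  ([19,15], [15,19])]

/-- letters -/
def SN2 : List ℕ := [0,1,12,13,15,16,18,19,20,21,22,23]

/-- letters -/
def SN1 : List ℕ := [0,1,2,3,4,5,6,7,8,9,10,11,15,16,18,19,21,22,23]

/-- letters -/
def SX : List ℕ := [0,1,2,3,4,5,6,7,8,9,10,11,15,16,17,18,19,20,21,22,23]

/-- letters -/
def SPa : List ℕ := [0,1,2,3,4,5,6,7,8,9,10,11,15,16,18,19,20,21,22,23,24,25]

/-- letters -/
def S13 : List ℕ := [0,1,15,16,18,19,20,21,22,23,24,25,26,27,28,29]

/-- an orbit -/
def PN2 : EL := [([], [15]), ([16], [15,21]), ([12,16], [15,22]), ([13,16], [15,21,22])]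

/-- letters as words -/
def QD : EL := [([6], [1,23]), ([7], [23,0]), ([2], [19,23,0]), ([3], [1,23,19]), ([4], [1,22]), ([5], [0,22])]

/-- the relations of the case -/
def EI0 : EL := E00 ++ [(wp, [])]

/-- the relations of the case -/
def EI1 : EL := E10 ++ [(wp, [1,15,19])]

/-- the action of `k` -/
def KW : EL := [([20,0], [0,20]), ([20,1], [1,20]), ([20,15], [15,22,20]), ([20,18], [18,20]),
  ([20,19], [19,20]), ([20,21], [21,20]), ([20,22], [22,20]), ([20,16], [16,20]),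
  ([23,20,23], [16,20])]

/-- an elementary abelian group -/
def W16 : List (List ℕ) := [[], [15], [19], [21], [22], [15,19], [15,21], [15,22], [19,21], [19,22], [21,22], [15,19,21],
  [15,19,22], [15,21,22], [19,21,22], [15,19,21,22]]

/-- rules -/
def XR : EL := [([15,15], []), ([19,15], [15,19]), ([19,19], []), ([21,15], [15,21]), ([21,19], [19,21]),
  ([21,21], []), ([22,15], [15,22]), ([22,19], [19,22]), ([22,21], [21,22]), ([22,22], []),
  ([8,15], [15,8]), ([8,19], [19,22,8]), ([8,21], [21,8]), ([8,22], [19,8]), ([9,15], [15,9]),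
  ([9,19], [22,9]), ([9,21], [21,9]), ([9,22], [19,22,9]), ([8,9], [])]

/-- the cube of `k x` -/
def wq : List ℕ := [20,8,20,8,20,8]

/-- rules -/
def RQ : EL := [([20,15], [15,22,20]), ([20,19], [19,20]), ([20,21], [21,20]), ([20,22], [22,20]),
  ([20,16], [16,20]), ([20,20], []), ([16,15], [15,21,16]), ([16,19], [19,16]),
  ([16,21], [21,16]), ([16,22], [22,16]), ([16,16], [])]

/-- a template -/
def Hq0 : XL := [([[], [16]], [[16], []]), ([[8], [9]], [[20], [20]])]

/-- non-trivial words -/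
def N16 : List (List ℕ) := [[21], [22], [19,22], [19]]

/-- relations in `M12` -/
def EX : EL := [([4,9,14,4,14,5,8,14,12,6], []), ([0,8,12,1,8,7,9,12,11,2], []), ([0,13,6,6,12,5], []),
  ([0,0,14,0,7,14,1,1,14], []), ([2,13,7,7,12,8,14,9,14], []), ([2,8,7,7,9,13,3,13], []),
  ([0,10,13,9,5,11,13,11,3], []), ([0,6,14,3,12,1,7,12,3,14], []), ([0,4,12,8,2,2,9,13], []),
  ([0,8,13,9,0,11,13,11,2], []), ([2,8,12,6,6,13,9,6], []), ([0,3,13,10,12,5,6,12,8,13], []),
  ([4,12,8,11,9,13,9,14,8,14], []), ([0,12,9,14,8,14,3,12,7], []), ([0,8,12,4,13,11,5], []),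
  ([0,4,13,8,1,14,9,12,14], []), ([0,2,4,14,7,9,3,14,8], []), ([0,13,7,8,10,2,9,12], []),
  ([0,8,5,2,9,12,9,11,13], []), ([0,14,11,5,3,10,14,6], []), ([0,12,8,7,7,9,13,4], []),
  ([0,14,0,14,9,13,5,7,14,8], []), ([0,2,14,13,9,7,1,14,10,13], []),
  ([6,12,7,14,9,14,10,12], []), ([0,6,14,12,1,7,12,14], []), ([0,14,12,11,5,3,10,12,14,6], []),
  ([2,8,6,6,9,13,3,13], []), ([4,4,13,9,12,10,8,13,8,12], []), ([0,10,12,8,3,9,4,12,11], []),
  ([6,12,7,14,9,14,11,12], []), ([0,6,14,13,11,4,2,10,13,14], []),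
  ([0,12,0,14,9,14,11,0,13], []), ([0,5,14,6,13,2,13,7,14,2], []),
  ([4,13,9,14,8,14,5,9,10,12], []), ([2,9,12,7,12,11,3,9], []), ([0,0,2,4,7,14,9,14,8], []),
  ([0,8,0,12,7,12,11], []), ([0,9,13,8,7,11,9,13,1,8], []), ([0,12,14,2,5,6,13,2,14,6], []),
  ([0,0,8,13,8,3,7,9,12,11], []), ([2,13,9,13,7,5,13,8,13], []), ([0,2,8,10,13,8,11,9,12,8], []),
  ([0,9,14,7,4,13,8,14,0,14], []), ([2,13,8,12,7,12,11,4,13], []), ([0,6,8,13,0,12,11,5], []),
  ([2,6,8,14,2,8,6,14,8,4], []), ([0,13,7,3,9,10,12], []), ([2,8,6,12,8,3,9,12,11], []),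
  ([0,14,3,9,14,5,14,10,6,13], []), ([0,4,9,13,4,7,13,8,2], []), ([0,9,0,14,5,14,4,14,8,13], []),
  ([0,12,7,8,12,0,13,8,12,2], []), ([0,13,8,6,11,14,9,12,14], []),
  ([0,7,10,14,6,4,3,14,11,5], []), ([4,12,9,11,12,9,14,8,12,14], []), ([4,13,8,6,9,13,7], []),
  ([0,6,14,4,14,0,6,14,4,14], []), ([2,9,2,10,12,7,12], []), ([0,0,13,8,3,9,4,13,3], []),
  ([0,14,8,13,14,1,12,3,10], []), ([0,4,2,13,8,14,9,13,14], []), ([2,4,8,12,8,3,9,12,11,7], []),
  ([2,4,6,13,14,5,6,3,14,12], []), ([2,8,13,2,10,8,13,9,4], []), ([2,4,6,14,5,3,6,14], []),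
  ([2,9,13,6,13,8,10], []), ([0,8,13,11,1,14,8,13,14,9], []), ([0,0,12,4,1,13], []),
  ([0,0,12,6,8,13,0,12,11,13], []), ([0,8,3,9,12,1,8,2,9,12], []),
  ([0,14,11,6,5,2,7,10,14,6], []), ([0,12,8,6,9,12,7], []), ([2,8,6,14,13,5,12,7,10,14], []),
  ([0,4,10,12,10,8,13,11], []), ([0,6,14,11,5,3,10,14], []), ([2,9,14,9,9,14,6,5], []),
  ([2,5,9,11,12,6,12], []), ([0,8,14,11,9,10,14,8,6], []), ([0,2,7,13,8,7,9,13,2], []),
  ([0,14,8,12,9,5,14,4,14,3], []), ([0,9,14,6,9,2,9,14,6], []), ([0,8,10,13,8,11,9,12,8,3], []),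
  ([2,2,9,13,7,14,13,8,14,11], []), ([0,3,12,14,3,5,1,14,12,5], []),
  ([2,6,9,13,9,11,5,12,8], []), ([0,12,6,5,12,8,5,9], []), ([0,2,12,7,8,11,9,12], []),
  ([0,9,5,13,6,13,9,12,1,13], []), ([0,2,14,3,8,0,14,9,4], []), ([2,13,8,4,14,9,14,7,13], []),
  ([2,8,6,8,14,8,14], []), ([2,13,14,9,14,8,12,6,5], []), ([0,12,11,5,14,8,12,6,0,14], []),
  ([2,9,12,9,11,13,8,13,2,13], []), ([0,8,10,12,10,1,8,12,8], []),
  ([2,8,14,6,9,12,3,14,3,14], []), ([0,10,12,10,5,8,12,11,6], []), ([0,6,8,12,9,1,8,5,12,9], []),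
  ([0,2,12,12,11,1,14,8,13,14], []), ([2,9,13,7,13,5,9,12,7,12], []),
  ([0,0,12,14,0,2,4,14,2,13], []), ([0,8,12,1,9,4,8,12,11,6], []),
  ([4,13,7,13,9,13,10,8,12,9], []), ([2,14,13,8,14,4,9,6,13], []), ([2,2,6,9,12,5,6,12,8], []),
  ([0,13,7,14,3,14,2,14,4,13], []), ([2,6,5,14,6,5,2,14], []), ([0,12,10,12,6,6,13,8,5,13], []),
  ([0,6,14,9,13,1,7,14,13,8], []), ([0,2,12,8,7,9,2,13,7], []), ([0,3,4,12,3,12], []),
  ([2,6,10,14,8,14,11,2,8], []), ([0,13,9,12,3,12,11,4,12], []), ([2,11,9,4,13,7,13,8], []),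
  ([0,0,13,2,14,13,5,0,3,14], []), ([2,14,3,14,11,5,7,10,12,14], []),
  ([2,7,13,14,9,14,8,12,5], []), ([0,6,9,14,12,6,0,12,8,14], []),
  ([0,8,12,5,6,12,0,14,9,14], []), ([0,4,10,13,5,12,9,3], []), ([2,8,13,5,5,12,9,7], []),
  ([0,0,6,6], []), ([0,4,2,14,4,1,3,14], []), ([0,2,10,14,1,4,3,14,11,6], []),
  ([0,13,11,9,7,3,9,12], []), ([0,0,12,9,5,8,12,6,5], []), ([2,6,5,14,4,12,9,10,13,14], []),
  ([0,8,2,8,10,13,6,13], []), ([0,14,7,12,3,12,6,14,4,3], []), ([0,4,9,9,0,14,9,14], []),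
  ([0,8,5,2,9,12,10,8,13], []), ([2,7,9,6,14,9,9,14], []), ([0,6,14,5,12,9,0,10,12,14], []),
  ([2,9,14,4,14,5,14,8,12], []), ([0,13,14,9,12,14,13,11,5,12], []), ([2,13,4,12,11,4,8], []),
  ([0,11,12,8,6,9,0,12,9], []), ([0,13,10,8,4,12,8,3,4,9], []), ([2,7,9,10,12,4,13], []),
  ([0,4,6,10,14,6,4,3,14,11], []), ([2,8,6,14,2,8,6,14,8], []), ([0,9,4,12,9,11,13,8,6], []),
  ([0,0,12,3,14,3,1,5,13,14], []), ([0,9,12,1,10,8,5,13,8,5], []), ([0,6,9,10,14,9,14,11,3], []),
  ([0,9,14,5,7,13,8,14,0,14], []), ([0,0,9,12,0,5,13,8], []), ([0,2,6,9,12,10,8,3,12,8], []),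
  ([0,13,3,3,12,5], []), ([0,4,6,13,11,1,8,13], [])]

/-- the relations of the second subcase -/
def EY : EL := [([16,10,16,11], []), ([16,8,16,9], []), ([16,0,16,1], []),
  ([12,16,13,8,12,16,13,8,12,16,13,8,1,1], []), ([16,4,16,5], []), ([16,10,16,10], []),
  ([16,12,16,12,16,12], []), ([16,15,16,15,0,0], [])]

/-- letters -/
def S17 : List ℕ := [15,14,1,4,11,9,16,12,3,6,2,5,0,13,8,7,10]

/-- rules -/
def DY : EL := [([21], [0,0]), ([12,16,13], [20])]

/-- an orbit -/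
def PX : EL := [([], [15]), ([16], [15,21]), ([17], [15,19]), ([20], [15,22]), ([17,16], [15,19,21]),
  ([20,16], [15,21,22]), ([20,17], [15,19,22]), ([20,17,16], [15,19,21,22])]

/-- an orbit -/
def P32 : List (List ℕ × List ℕ × List ℕ) := [([], [15], [15]), ([17], [15], [15,19]), ([16], [15], [15,21]), ([20], [15], [15,22]),
  ([16,17], [15], [15,19,21]), ([20,17], [15], [15,19,22]), ([12,17], [15], [0,15,18]),
  ([13,17], [15], [15,18]), ([20,16], [15], [15,21,22]), ([20,16,17], [15], [15,19,21,22]),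
  ([12,16,17], [15], [0,15,18,22]), ([13,16,17], [15], [15,18,21,22]),
  ([12,20,17], [15], [1,15,18,22]), ([13,20,17], [15], [15,18,21]),
  ([17,12,17], [15], [0,16,15,19,18,20]), ([16,12,17], [15], [1,15,18]),
  ([17,13,17], [15], [15,19,18,20]), ([20,13,17], [15], [15,18,22]),
  ([17,12,16,17], [15], [0,16,15,18,19,20]), ([17,13,16,17], [15], [15,18,19,20,21]),
  ([17,12,20,17], [15], [0,15,16,18,19,20]), ([17,13,20,17], [15], [15,19,18,20,21]),
  ([16,17,12,17], [15], [0,15,16,19,18,20]), ([12,17,12,17], [15], [0,15,16]),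
  ([13,17,12,17], [15], [15,18,19,20]), ([13,17,13,17], [15], [0,16,15]),
  ([12,17,12,16,17], [15], [0,16,15,22]), ([13,17,13,20,17], [15], [0,15,16,22]),
  ([17,12,17,12,17], [15], [1,15,19]), ([17,13,17,13,17], [15], [0,15,19]),
  ([17,12,17,12,16,17], [15], [0,15,19,22]), ([17,13,17,13,20,17], [15], [1,15,19,22])]

/-- the conjugates of `e` -/
def W32 : List (List ℕ) := P32.map fun p => p.2.2

/-- more conjugates -/
def P16 : EL := [([8], [0,15,16]), ([8], [0,16,15]), ([8], [0,16,15,22]), ([8], [0,15,16,22]), ([8], [1,15,19]),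
  ([8], [0,15,19]), ([8], [0,15,19,22]), ([8], [1,15,19,22]), ([9], [0,15,16]), ([9], [0,16,15]),
  ([9], [0,16,15,22]), ([9], [0,15,16,22]), ([9], [1,15,19]), ([9], [0,15,19]),
  ([9], [0,15,19,22]), ([9], [1,15,19,22])]

/-- the conjugates of `e` -/
noncomputable def W48 : List (List ℕ) := W32 ++ P16.map (cw iv)

/-- an orbit -/
def PN1 : EL := [([], [15]), ([16], [15,21])]

/-- the cube of `k s x` -/
def wr : List ℕ := [20,18,8,20,18,8,20,18,8]

/-- a relator -/
def w12 : List ℕ := [26,24,8,26,24,8,26,24,8]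

/-- a relator -/
def w23 : List ℕ := [28,8,28,8,28,8,28,8,24,23,0]

/-- an automorphism -/
def WA : List (List ℕ) := [[4], [5], [6], [7], [0], [1], [2], [3], [8], [9], [0,0,10], [0,0,11], [12,0], [1,13],
  [10,14,10], [15], [16]]

/-- inverse letters -/
def AI : EL := (List.range 16).map fun a => ([iv a, a], [])

/-- the inverse automorphism -/
def VA : List (List ℕ) := [[4], [5], [6], [7], [0], [1], [2], [3], [8], [9], [4,4,10], [4,4,11], [12,5], [4,13],
  [4,4,10,14,4,4,10], [15]]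

/-- rules -/
def RA : EL := [([0,16], [16,0]), ([0,1], []), ([12,16,13], [20]), ([10,8], [18]), ([0,0], [21]),
  ([21,20], [20,21]), ([21,18], [18,21]), ([21,8], [8,21]), ([21,21], [])]

/-- the action of `k` -/
def KC : EL := [([20,0], [0,22,20]), ([20,1], [1,22,20]), ([20,15], [15,22,20]), ([20,18], [18,22,20]),
  ([20,19], [19,22,20]), ([20,21], [21,20]), ([20,22], [22,20]), ([20,16], [16,21,22,20]),
  ([23,20,23], [0,15,20,16,19])]

/-- an orbit -/
def PP : EL := [([], [15]), ([16], [15,21]), ([20], [15,22]), ([24], [15,19]), ([20,16], [15,21,22]),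
  ([24,16], [15,19,21]), ([9,20], [15,19,22]), ([9,20,16], [15,19,21,22])]

/-- the four-group -/
def U4 : List (List ℕ) := [[], [21], [22], [21,22]]

/-- a word -/
def va : List ℕ := [24,12,24,13,24,13,24,12,24,12,24,13,24,13,24,12,24,12,24,13,24,13,24,12]

/-- a word -/
def vb : List ℕ := [19,20,12,24,13,13,24,12,20,19,19,20,12,24,13,13,24,12,20,19,19,20,12,24,13,13,24,12,20,19]

/-- a word -/
def wra : List ℕ := [21,22]

/-- a word -/
def wrb : List ℕ := [1,16,22]

/-- the action on the group of order 256 -/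
def AR : List (List ℕ × List ℕ × List ℕ) := [([26], [20], [0,18,22]), ([26], [16], [19]), ([26], [15], [0,15,19]),
  ([26], [18], [0,15,18,16,20,19]), ([26], [0], [16,15,19,22]), ([26], [19], [16,19]),
  ([26], [22], [22]), ([26], [21], [21]), ([28], [20], [0,15,20,16,19]), ([28], [16], [0,18]),
  ([28], [15], [0,15,16,18]), ([28], [18], [16,21,22]), ([28], [0], [18,16]),
  ([28], [19], [0,20,18]), ([28], [22], [22]), ([28], [21], [21])]

/-- conjugates of the elements of order three -/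
def CJ : List (List ℕ × List ℕ × List ℕ) := [([26,28,27], [], [28]), ([24,26,25], [19], [27]), ([24,28,25], [18,16,22], [29]),
  ([23,26,23], [1,15,22], [26]), ([23,28,23], [], [29])]

/-- cubes -/
def C3 : EL := [([26,26,26], []), ([27,27,27], []), ([28,28,28], []), ([29,29,29], [])]

/-- the letters in the centraliser of the four-group -/
def SK : List ℕ := [0,1,15,16,18,19,20,21,22,24,25,26,27,28,29]

/-- an orbit -/
def P72 : EL := [([], [15]), ([16], [15,21]), ([20], [15,22]), ([24], [15,19]), ([26], [0,15,19]),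
  ([27], [1,19,22]), ([28], [0,15,16,18]), ([29], [15,18,16,22]), ([20,16], [15,21,22]),
  ([24,16], [15,19,21]), ([26,16], [1,15,19]), ([27,16], [0,19,22]), ([28,16], [0,15,18,16]),
  ([29,16], [15,16,18,22]), ([24,20], [15,19,22]), ([26,20], [0,15,19,22]), ([27,20], [1,19]),
  ([28,20], [0,15,16,18,22]), ([29,20], [15,18,16]), ([26,24], [0,15,16]),
  ([27,24], [1,16,19,22]), ([28,24], [15,16,20,22]), ([29,24], [0,20,19]),
  ([18,26], [1,15,19,22]), ([24,26], [0,16,19,22]), ([28,26], [15,20,18,21]),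
  ([29,26], [18,16,19,20]), ([18,27], [0,19]), ([25,27], [0,16,15]), ([28,27], [1,16,20]),
  ([29,27], [15,19,20]), ([19,28], [0,15,18,16,22]), ([24,28], [0,19,20]), ([25,28], [1,20,19]),
  ([20,29], [15,16,18]), ([24,29], [16,15,20]), ([25,29], [15,20,16]),
  ([24,20,16], [15,19,21,22]), ([28,26,16], [15,20,18]), ([29,26,16], [16,18,19,20]),
  ([28,27,16], [0,16,20]), ([29,27,16], [15,19,20,21]), ([24,28,16], [1,19,20]),
  ([24,29,16], [15,16,20]), ([26,24,20], [0,15,16,22]), ([27,24,20], [1,16,19]),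
  ([24,26,20], [0,16,19]), ([28,26,20], [15,18,20,21]), ([29,26,20], [18,16,20,19]),
  ([25,27,20], [0,16,15,22]), ([28,27,20], [0,20,16]), ([29,27,20], [15,20,19]),
  ([28,26,24], [15,18,21]), ([29,26,24], [1,15,18,22]), ([28,27,24], [16,18,20]),
  ([29,27,24], [15,18,20,19,21]), ([28,18,26], [15,18,20]), ([29,18,26], [16,18,20,19]),
  ([28,24,26], [18,16,20]), ([29,24,26], [15,18,20,19]), ([24,28,26], [15,18,19,20,21]),
  ([24,29,26], [16,20,18,21]), ([28,18,27], [1,20,16]), ([29,18,27], [15,20,19,21]),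
  ([28,25,27], [15,18]), ([29,25,27], [0,15,18,22]), ([25,28,27], [1,15,18]),
  ([25,29,27], [15,18,22]), ([24,28,26,16], [15,18,19,20]), ([24,29,26,16], [16,20,18]),
  ([25,28,27,16], [0,15,18]), ([25,29,27,16], [15,18,21,22])]

/-- an involution -/
def wt : List ℕ := [15,24]

/-- a conjugate of `e` -/
def wd : List ℕ := [0,15,19]

/-- conjugators -/
def R4 : List (List ℕ) := [[], [16], [20], [16,20]]

/-- conjugators -/
def K72 : List (List ℕ) := P72.map Prod.fst

/-- square roots -/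
def SQ : List (List ℕ) := [[], [25,27], [0,15,26,28,25], [24], [0,27,25,28], [0], [15,20], [25,28,0,27], [25,28,15,27],
  [24,26], [0,25,27], [15,18,24,27], [0,15,24,27,29], [25,29,15,27], [0,24,0], [18,20,24],
  [15,27,25,28], [0,29,24,26], [0,20], [24,0,28], [0,15,26,29,25], [15,29,24,26], [0,29,24],
  [0,25,28], [0,15,24,27,28], [0,19,29,25], [24,0,26], [0,24,26,20], [15,24,27,18], [25,29,0,27],
  [28,24,0,28], [0,20,24,26], [0,27,25,29], [15,28,24,26], [0,28,24,26], [15,27,25,29],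
  [0,28,24], [0,25,29], [0,19,28,25], [24,0,29]]

/-- conjugators -/
def R32 : List (List ℕ) := [[], [0], [15], [16], [18], [20], [15,0], [16,0], [18,0], [20,0], [16,15], [18,15], [20,15],
  [18,16], [20,16], [20,18], [16,15,0], [18,15,0], [20,15,0], [18,16,0], [20,16,0], [20,18,0],
  [18,16,15], [20,16,15], [20,18,15], [20,18,16], [18,16,15,0], [20,16,15,0], [20,18,15,0],
  [20,18,16,0], [20,18,16,15], [20,18,16,15,0]]

/-- equations -/
def EK : EL := [([15,24,15,24], []), ([0,15,19], [26,15,27]), ([15,0,15,19], [21,22,27,15,26])]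

/-- products of squares -/
def SQR : List (List ℕ × List (List ℕ)) := [([20], [[0], [0,26], [27,18]]), ([16], [[25,27]]), ([15], [[26], [0,20], [15,27]]),
  ([18], [[20,27], [0,26]]), ([0], [[27], [0,26]]), ([19], [[24]]), ([22], [[15,20]]),
  ([21], [[0]])]

/-- elements of order three -/
def N7 : List (List ℕ) := [[], [28], [29], [26,28], [26,29], [27,28], [27,29]]

/-- elements of order three -/
def N2 : List (List ℕ) := [[26], [27]]

/-- coset representatives -/
def MS : List (List ℕ) := (N7 ++ N2) ++ (N7 ++ N2).map (· ++ wt)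

/-- the action on the cosets -/
def DC : List (List ℕ × List ℕ × List ℕ) := [([24], [], [15,24]), ([24], [28], [29,15,24]), ([24], [29], [28,15,24]),
  ([24], [26,28], [27,29,15,24]), ([24], [26,29], [27,28,15,24]), ([24], [27,28], [26,29,15,24]),
  ([24], [27,29], [26,28,15,24]), ([24], [26], [27,15,24]), ([24], [27], [26,15,24]),
  ([24], [15,24], []), ([24], [28,15,24], [29]), ([24], [29,15,24], [28]),
  ([24], [26,28,15,24], [27,29]), ([24], [26,29,15,24], [27,28]), ([24], [27,28,15,24], [26,29]),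
  ([24], [27,29,15,24], [26,28]), ([24], [26,15,24], [27]), ([24], [27,15,24], [26]),
  ([26], [], [26]), ([26], [28], [26,28]), ([26], [29], [26,29]), ([26], [26,28], [27,28]),
  ([26], [26,29], [27,29]), ([26], [27,28], [28]), ([26], [27,29], [29]), ([26], [26], [27]),
  ([26], [27], []), ([26], [15,24], [26,15,24]), ([26], [28,15,24], [26,28,15,24]),
  ([26], [29,15,24], [26,29,15,24]), ([26], [26,28,15,24], [27,28,15,24]),
  ([26], [26,29,15,24], [27,29,15,24]), ([26], [27,28,15,24], [28,15,24]),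
  ([26], [27,29,15,24], [29,15,24]), ([26], [26,15,24], [27,15,24]), ([26], [27,15,24], [15,24]),
  ([28], [], [28]), ([28], [28], [29]), ([28], [29], []), ([28], [26,28], [26,29]),
  ([28], [26,29], [26]), ([28], [27,28], [27,29]), ([28], [27,29], [27]), ([28], [26], [26,28]),
  ([28], [27], [27,28]), ([28], [15,24], [28,15,24]), ([28], [28,15,24], [29,15,24]),
  ([28], [29,15,24], [15,24]), ([28], [26,28,15,24], [26,29,15,24]),
  ([28], [26,29,15,24], [26,15,24]), ([28], [27,28,15,24], [27,29,15,24]),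
  ([28], [27,29,15,24], [27,15,24]), ([28], [26,15,24], [26,28,15,24]),
  ([28], [27,15,24], [27,28,15,24]), ([20], [], []), ([20], [28], [28]), ([20], [29], [29]),
  ([20], [26,28], [26,28]), ([20], [26,29], [26,29]), ([20], [27,28], [27,28]),
  ([20], [27,29], [27,29]), ([20], [26], [26]), ([20], [27], [27]), ([20], [15,24], [15,24]),
  ([20], [28,15,24], [28,15,24]), ([20], [29,15,24], [29,15,24]),
  ([20], [26,28,15,24], [26,28,15,24]), ([20], [26,29,15,24], [26,29,15,24]),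
  ([20], [27,28,15,24], [27,28,15,24]), ([20], [27,29,15,24], [27,29,15,24]),
  ([20], [26,15,24], [26,15,24]), ([20], [27,15,24], [27,15,24]), ([16], [], []),
  ([16], [28], [28]), ([16], [29], [29]), ([16], [26,28], [26,28]), ([16], [26,29], [26,29]),
  ([16], [27,28], [27,28]), ([16], [27,29], [27,29]), ([16], [26], [26]), ([16], [27], [27]),
  ([16], [15,24], [15,24]), ([16], [28,15,24], [28,15,24]), ([16], [29,15,24], [29,15,24]),
  ([16], [26,28,15,24], [26,28,15,24]), ([16], [26,29,15,24], [26,29,15,24]),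
  ([16], [27,28,15,24], [27,28,15,24]), ([16], [27,29,15,24], [27,29,15,24]),
  ([16], [26,15,24], [26,15,24]), ([16], [27,15,24], [27,15,24]), ([15], [], []),
  ([15], [28], [28]), ([15], [29], [29]), ([15], [26,28], [26,28]), ([15], [26,29], [26,29]),
  ([15], [27,28], [27,28]), ([15], [27,29], [27,29]), ([15], [26], [26]), ([15], [27], [27]),
  ([15], [15,24], [15,24]), ([15], [28,15,24], [28,15,24]), ([15], [29,15,24], [29,15,24]),
  ([15], [26,28,15,24], [26,28,15,24]), ([15], [26,29,15,24], [26,29,15,24]),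
  ([15], [27,28,15,24], [27,28,15,24]), ([15], [27,29,15,24], [27,29,15,24]),
  ([15], [26,15,24], [26,15,24]), ([15], [27,15,24], [27,15,24]), ([18], [], []),
  ([18], [28], [28]), ([18], [29], [29]), ([18], [26,28], [26,28]), ([18], [26,29], [26,29]),
  ([18], [27,28], [27,28]), ([18], [27,29], [27,29]), ([18], [26], [26]), ([18], [27], [27]),
  ([18], [15,24], [15,24]), ([18], [28,15,24], [28,15,24]), ([18], [29,15,24], [29,15,24]),
  ([18], [26,28,15,24], [26,28,15,24]), ([18], [26,29,15,24], [26,29,15,24]),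
  ([18], [27,28,15,24], [27,28,15,24]), ([18], [27,29,15,24], [27,29,15,24]),
  ([18], [26,15,24], [26,15,24]), ([18], [27,15,24], [27,15,24]), ([0], [], []),
  ([0], [28], [28]), ([0], [29], [29]), ([0], [26,28], [26,28]), ([0], [26,29], [26,29]),
  ([0], [27,28], [27,28]), ([0], [27,29], [27,29]), ([0], [26], [26]), ([0], [27], [27]),
  ([0], [15,24], [15,24]), ([0], [28,15,24], [28,15,24]), ([0], [29,15,24], [29,15,24]),
  ([0], [26,28,15,24], [26,28,15,24]), ([0], [26,29,15,24], [26,29,15,24]),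
  ([0], [27,28,15,24], [27,28,15,24]), ([0], [27,29,15,24], [27,29,15,24]),
  ([0], [26,15,24], [26,15,24]), ([0], [27,15,24], [27,15,24]), ([19], [], []),
  ([19], [28], [28]), ([19], [29], [29]), ([19], [26,28], [26,28]), ([19], [26,29], [26,29]),
  ([19], [27,28], [27,28]), ([19], [27,29], [27,29]), ([19], [26], [26]), ([19], [27], [27]),
  ([19], [15,24], [15,24]), ([19], [28,15,24], [28,15,24]), ([19], [29,15,24], [29,15,24]),
  ([19], [26,28,15,24], [26,28,15,24]), ([19], [26,29,15,24], [26,29,15,24]),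
  ([19], [27,28,15,24], [27,28,15,24]), ([19], [27,29,15,24], [27,29,15,24]),
  ([19], [26,15,24], [26,15,24]), ([19], [27,15,24], [27,15,24]), ([22], [], []),
  ([22], [28], [28]), ([22], [29], [29]), ([22], [26,28], [26,28]), ([22], [26,29], [26,29]),
  ([22], [27,28], [27,28]), ([22], [27,29], [27,29]), ([22], [26], [26]), ([22], [27], [27]),
  ([22], [15,24], [15,24]), ([22], [28,15,24], [28,15,24]), ([22], [29,15,24], [29,15,24]),
  ([22], [26,28,15,24], [26,28,15,24]), ([22], [26,29,15,24], [26,29,15,24]),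
  ([22], [27,28,15,24], [27,28,15,24]), ([22], [27,29,15,24], [27,29,15,24]),
  ([22], [26,15,24], [26,15,24]), ([22], [27,15,24], [27,15,24]), ([21], [], []),
  ([21], [28], [28]), ([21], [29], [29]), ([21], [26,28], [26,28]), ([21], [26,29], [26,29]),
  ([21], [27,28], [27,28]), ([21], [27,29], [27,29]), ([21], [26], [26]), ([21], [27], [27]),
  ([21], [15,24], [15,24]), ([21], [28,15,24], [28,15,24]), ([21], [29,15,24], [29,15,24]),
  ([21], [26,28,15,24], [26,28,15,24]), ([21], [26,29,15,24], [26,29,15,24]),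
  ([21], [27,28,15,24], [27,28,15,24]), ([21], [27,29,15,24], [27,29,15,24]),
  ([21], [26,15,24], [26,15,24]), ([21], [27,15,24], [27,15,24])]

/-- a cyclic group -/
def I4 : List (List ℕ) := [[], [21], [16,15], [15,16]]

/-- letters -/
def SH : List ℕ := [0,1,2,3,4,5,6,7,8,9,15,16,18,19,20,21,22,23,24,25,26,27,28,29]

/-- letters -/
def SW : List ℕ := [8,26,28,0,23,24,18,20,16,15,19]

/-- relations -/
def R13 : EL := [([0,0,21], []), ([19,24,24], []), ([26,26,26], []), ([28,28,28], []), ([0,15,1,15], []),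
  ([0,19,0,19], []), ([16,27,19,26], []), ([18,24,20,25], []), ([23,28,23,28], []),
  ([24,27,24,27], []), ([26,28,27,29], []), ([0,18,28,16,29], []), ([0,20,1,20,22], []),
  ([0,15,19,26,15,27], []), ([0,18,20,27,20,26], []), ([0,22,27,15,26,19], []),
  ([0,23,24,0,23,24], []), ([0,24,28,25,1,28], []), ([23,24,27,23,24,27], []),
  ([0,27,15,22,26,19], []), ([16,25,26,24,26], []), ([0,22,1,29,22,28], []),
  ([0,21,28,16,29,18], []), ([16,19,26,19,27], []), ([0,0,29,21,28], []),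
  ([0,18,28,16,28,28], []), ([0,18,26,20,27,22], []), ([0,24,27,0,24,27], []),
  ([0,18,22,26,20,27], []), ([0,16,1,27,19,26], []), ([15,22,15,22], []), ([21,22,23,22,23], []),
  ([0,19,0,24,24], []), ([19,21,24,24,21], []), ([0,28,1,16,29,16], []),
  ([15,19,20,19,15,20], []), ([18,24,20,19,24], []), ([0,0,18,16,18,16], []),
  ([16,26,26,19,26], []), ([0,23,25,0,23,25], []), ([0,23,1,28,23,28], []),
  ([0,27,0,27,0,27], []), ([0,0,24,1,1,25], []), ([16,22,16,22], []), ([18,20,18,20,22], []),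
  ([0,22,1,25,22,24], []), ([0,16,29,1,16,28], []), ([0,0,15,21,15], []),
  ([0,23,24,23,0,24], []), ([0,28,1,24,28,25], []), ([0,29,16,18,28], []),
  ([0,15,28,15,1,29], []), ([0,0,20,0,0,20], []), ([0,15,26,16,15,27], []), ([16,21,16,21], []),
  ([0,18,22,23,18,23], []), ([0,26,25,0,26,25], []), ([21,23,21,23], []),
  ([0,20,18,0,20,18], []), ([0,20,1,18,20,18], []), ([15,18,20,15,18,20], []),
  ([0,19,20,0,19,20], []), ([16,19,16,19], []), ([0,0,20,21,20], []), ([0,0,16,15,16,15], []),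
  ([0,23,18,22,23,18], []), ([0,27,19,26,1,16], []), ([0,24,24,0,25,25], []),
  ([0,0,16,18,16,18], []), ([0,28,1,15,29,15], []), ([15,20,15,20,22], []),
  ([0,15,28,1,15,29], []), ([20,22,20,22], []), ([19,21,23,19,23], []), ([0,22,29,18,28,18], []),
  ([18,19,18,19,22], []), ([0,29,18,28,22,18], []), ([0,18,29,29,16,29], []),
  ([19,20,19,20,22], []), ([0,0,28,21,29], []), ([0,29,18,16,28,21], []), ([0,0,24,21,25], []),
  ([0,20,19,0,20,19], []), ([0,24,18,25,1,20], []), ([0,28,16,21,29,18], []),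
  ([16,23,16,23], []), ([0,18,20,0,18,20], []), ([0,22,1,22], []), ([0,15,20,1,15,20], []),
  ([21,28,21,29], []), ([21,22,21,22], []), ([19,22,19,22], []), ([19,22,24,24,22], []),
  ([0,0,25,21,24], []), ([19,21,19,21], []), ([0,20,1,15,20,15], []), ([0,24,22,25,1,22], []),
  ([0,25,22,24,1,22], []), ([0,18,26,22,20,27], []), ([0,20,16,0,20,16], []),
  ([0,22,1,27,22,26], []), ([0,20,0,22,21,20], []), ([19,24,26,25,26], []),
  ([0,18,26,20,22,27], []), ([0,19,15,26,15,27], []), ([0,20,1,24,18,25], []),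
  ([0,29,22,18,28,18], []), ([0,27,22,15,26,19], []), ([0,0,19,21,19], []), ([0,16,1,16], [])]

/-- relations -/
def RPa : EL := [([0,0,21], []), ([0,4,22], []), ([0,6,23], []), ([2,6,19], []), ([8,8,8], []),
  ([19,24,24], []), ([0,9,3,8], []), ([0,15,1,15], []), ([0,18,0,18], []), ([0,20,4,20], []),
  ([2,24,2,24], []), ([8,15,9,15], []), ([8,18,8,18], []), ([15,18,15,18], []),
  ([15,24,15,24], []), ([18,24,20,25], []), ([0,2,8,3,9], []), ([8,18,20,9,24], []),
  ([0,15,16,24,4,24], []), ([0,8,23,24,24,9], []), ([0,0,24,21,25], []), ([0,0,25,5,5,24], []),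
  ([0,15,19,23,15,2], []), ([8,16,9,16], []), ([0,20,2,4,3,20], []), ([0,8,19,7,9,2], []),
  ([0,5,25,1,4,24], []), ([0,19,8,3,5,9], []), ([4,18,4,18], []), ([0,7,8,2,22,9], []),
  ([18,22,25,20,24], []), ([0,5,21,22], []), ([0,5,23,8,7,9], []), ([0,25,22,24,4], []),
  ([18,20,18,20,22], []), ([0,3,18,3,18], []), ([0,0,15,21,15], []), ([2,6,24,24], []),
  ([4,8,6,4,9], []), ([0,9,3,9,9], []), ([2,7,2,7], []), ([2,15,19,15,6], []),
  ([0,3,0,24,3,24], []), ([0,9,25,25,8,4], []), ([15,21,15,21], []), ([2,2,20,21,20], []),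
  ([0,23,25,2,24], []), ([0,0,9,5,5,8], []), ([0,0,8,7,7,9], []), ([0,6,16,23,16], []),
  ([2,24,7,25], []), ([18,25,20,22,24], []), ([0,19,0,25,25], []), ([4,4,8,21,9], []),
  ([0,4,9,22,8,19], []), ([4,23,18,23,18], []), ([2,7,19,21], []), ([0,18,7,23,18], []),
  ([0,3,8,2,9], []), ([4,19,8,23,9], []), ([0,15,23,15,6], []), ([2,25,7,24], []),
  ([0,15,16,25,5,25], []), ([0,5,8,6,9,23], []), ([0,0,20,21,20], []), ([0,9,19,8,4], []),
  ([6,9,22,23,8], []), ([2,9,23,8,22], []), ([0,23,6], []), ([0,8,6,9,23,5], []),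
  ([0,0,16,15,16,15], []), ([2,2,9,21,8], []), ([4,6,22,23], []), ([4,4,24,21,25], []),
  ([0,3,24,24,23], []), ([0,4,20,24,18,25], []), ([2,2,5,5], []), ([2,15,3,15], []),
  ([2,25,2,25], []), ([0,2,1,2], []), ([4,20,23,7,20], []), ([0,16,19,23,16,2], []),
  ([0,7,21,23], []), ([0,9,22,4,8,3], []), ([0,7,9,21,8,23], []), ([0,8,18,2,18,9], []),
  ([0,16,25,15,5,24], []), ([2,4,19,6,5], []), ([15,16,15,16,21], []), ([2,2,18,21,18], []),
  ([0,9,4,22,8,3], []), ([0,18,19,7,18,3], []), ([0,2,23,19], []), ([0,3,0,25,3,25], []),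
  ([0,20,1,24,18,25], []), ([4,18,7,18,6], []), ([0,8,19,22,9,4], []), ([6,6,16,21,16], []),
  ([0,2,16,23,19,16], []), ([2,16,3,16], []), ([2,8,23,6,9], []), ([4,7,9,4,8], []),
  ([6,18,23,18,22], []), ([6,16,7,16], []), ([0,19,22,19,4], []), ([0,7,8,21,9,23], []),
  ([0,2,23,24,24], []), ([4,6,18,6,18], []), ([18,19,18,19,22], []), ([0,5,24,4,1,25], []),
  ([0,6,8,3,22,9], []), ([0,4,19,20,19,20], []), ([0,0,15,16,15,16], []), ([0,8,19,6,9,3], []),
  ([15,23,15,23], []), ([4,7,23,22], []), ([0,8,7,9,23,4], []), ([0,2,18,2,18], []),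
  ([0,20,2,23,20,19], []), ([0,9,0,19,23,8], []), ([4,4,18,21,18], []), ([16,19,16,19], []),
  ([0,9,23,22,8,23], []), ([0,0,20,2,2,20], []), ([0,7,18,23,18,5], []), ([6,6,8,21,9], []),
  ([0,0,8,6,6,9], []), ([0,8,23,8,22,8], []), ([0,15,22,15,4], []), ([16,23,16,23], []),
  ([0,0,25,21,24], []), ([0,0,24,3,3,25], []), ([0,2,22,5,3], []), ([19,20,19,20,22], []),
  ([2,6,16,19,16], []), ([0,2,4,22,2], []), ([0,5,19,23,5,3], []), ([18,21,18,21], []),
  ([0,4,20,19,20,19], []), ([0,7,23,21], []), ([2,7,21,19], []), ([0,7,9,19,4,8], []),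
  ([2,24,24,6], []), ([21,24,21,25], []), ([0,7,18,21,18,23], []), ([0,19,18,2,18,7], []),
  ([4,19,4,24,24], []), ([2,2,7,7], []), ([0,19,20,19,20,4], []), ([0,4,24,1,5,25], []),
  ([8,18,25,8,20], []), ([0,8,6,0,19,9], []), ([6,6,15,21,15], []), ([0,15,25,4,25,16], []),
  ([8,19,22,9,22], []), ([2,2,21], []), ([0,19,9,23,5,8], []), ([2,16,19,16,6], []),
  ([19,22,24,24,22], []), ([0,8,23,19,9], []), ([2,4,6,19,5], []), ([0,9,22,5,8,2], []),
  ([6,6,21], []), ([4,8,6,9,6], []), ([0,0,7,7], []), ([0,0,16,21,16], []), ([2,6,8,22,9], []),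
  ([0,0,5,5], []), ([6,6,18,21,18], []), ([0,8,5,2,9,19], []), ([0,2,23,25,25], []),
  ([0,4,18,25,20,24], []), ([16,21,16,21], []), ([0,5,24,1,4,25], []), ([0,19,0,24,24], []),
  ([0,24,22,25,4], []), ([0,16,25,5,25,15], []), ([0,4,20,22,20], []), ([0,19,9,22,8,4], []),
  ([0,4,19,9,22,8], []), ([0,2,5,22,3], []), ([0,0,20,6,6,20], []), ([4,4,15,21,15], []),
  ([0,4,16,22,16], []), ([0,7,8,22,3,9], []), ([4,8,22,23,9], []), ([2,6,3,7], []),
  ([0,18,2,18,3], []), ([0,18,22,18,4], []), ([0,5,22,21], []), ([0,19,0,19], []),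
  ([0,16,24,4,24,15], []), ([0,5,9,4,8,23], []), ([0,4,1,5], []), ([0,0,9,21,8], []),
  ([4,6,5,6], []), ([0,0,2,2], []), ([0,4,18,20,18,20], []), ([0,0,24,0,0,25], []),
  ([0,8,19,1,6,9], []), ([2,4,7,19,4], []), ([0,3,18,6,19,18], []), ([19,22,19,22], []),
  ([0,4,20,15,20,15], []), ([0,7,19,8,3,9], []), ([6,6,20,21,20], []), ([0,4,9,24,24,8], []),
  ([0,4,25,22,24], []), ([0,0,25,3,3,24], []), ([0,5,9,23,8,2], [])]

/-- the normaliser of the four-group -/
def sP : List (List ℕ × ℕ) := [([23], 2), ([24], 2), ([26], 3), ([28], 3), ([20], 2), ([16], 2), ([15], 2), ([18], 2),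
  ([0], 2), ([19], 2), ([22], 2), ([21], 2)]

/-- conjugators -/
def H54 : List (List ℕ) := [[], [2], [8], [9], [8,2], [9,2], [26,8], [27,8], [28,8], [29,8], [26,9], [27,9], [28,9],
  [29,9], [26,8,2], [27,8,2], [28,8,2], [29,8,2], [26,9,2], [27,9,2], [28,9,2], [29,9,2],
  [28,26,8], [29,26,8], [28,27,8], [29,27,8], [8,28,8], [9,28,8], [8,29,8], [9,29,8], [28,26,9],
  [29,26,9], [28,27,9], [29,27,9], [8,28,9], [9,28,9], [8,29,9], [9,29,9], [28,26,8,2],
  [29,26,8,2], [28,27,8,2], [29,27,8,2], [8,28,8,2], [9,28,8,2], [8,29,8,2], [9,29,8,2],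
  [28,26,9,2], [29,26,9,2], [28,27,9,2], [29,27,9,2], [8,28,9,2], [9,28,9,2], [8,29,9,2],
  [9,29,9,2]]

/-- conjugators -/
def H136 : List (List ℕ) := [[], [16], [20], [24], [26], [27], [28], [29], [20,16], [24,16], [26,16], [27,16], [28,16],
  [29,16], [9,20], [26,20], [27,20], [28,20], [29,20], [26,24], [27,24], [28,24], [29,24],
  [8,26], [9,26], [18,26], [24,26], [28,26], [29,26], [8,27], [9,27], [18,27], [25,27], [28,27],
  [29,27], [2,28], [19,28], [24,28], [25,28], [24,29], [25,29], [9,20,16], [8,26,16], [9,26,16],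
  [28,26,16], [29,26,16], [8,27,16], [9,27,16], [28,27,16], [29,27,16], [24,28,16], [24,29,16],
  [26,9,20], [27,9,20], [8,26,20], [9,26,20], [24,26,20], [28,26,20], [29,26,20], [8,27,20],
  [9,27,20], [25,27,20], [28,27,20], [29,27,20], [8,26,24], [9,26,24], [28,26,24], [29,26,24],
  [8,27,24], [9,27,24], [28,27,24], [29,27,24], [18,8,26], [20,8,26], [26,8,26], [18,9,26],
  [20,9,26], [24,9,26], [28,18,26], [29,18,26], [8,24,26], [28,24,26], [29,24,26], [8,28,26],
  [9,28,26], [24,28,26], [8,29,26], [9,29,26], [24,29,26], [18,8,27], [20,8,27], [24,8,27],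
  [20,9,27], [28,18,27], [29,18,27], [9,25,27], [28,25,27], [29,25,27], [25,28,27], [25,29,27],
  [20,8,26,16], [20,9,26,16], [8,28,26,16], [9,28,26,16], [24,28,26,16], [8,29,26,16],
  [9,29,26,16], [24,29,26,16], [25,28,27,16], [25,29,27,16], [8,26,9,20], [8,28,26,20],
  [9,28,26,20], [8,29,26,20], [9,29,26,20], [20,9,27,20], [8,28,27,24], [9,28,27,24],
  [8,29,27,24], [9,29,27,24], [8,28,18,26], [9,28,18,26], [8,29,18,26], [9,29,18,26],
  [8,28,24,26], [9,28,24,26], [8,29,24,26], [9,29,24,26], [20,9,28,26], [9,24,28,26],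
  [20,8,29,26], [8,24,29,26], [9,24,29,26], [20,9,28,26,16], [9,24,28,26,16], [8,24,29,26,16]]

/-- equations -/
def EH : EL := [([8,8,8], []), ([18,18], []), ([18,8,18,8], []), ([22,8,22,9], [8,22,9,22]), ([22,22], []),
  ([23,22,23], [21,22]), ([22], [12,0,13,12,0,13]), ([12,21,13], [22]), ([21,21], []),
  ([21,22], [22,21])]

variable {M : Type*} [Group M]

/-- the relations of the first letters -/
structure Pr0 (g : ℕ → M) : Prop where
  inv : ∀ a < 16, g (iv a) = (g a)⁻¹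
  rel : Eqs g E0

/-- the relations and the definitions of the letters -/
structure Pr (g : ℕ → M) : Prop where
  inv : ∀ a, g (iv a) = (g a)⁻¹
  rel : Eqs g E0
  df : Eqs g DF

/-- a model -/
structure Mod (g : ℕ → M) : Prop extends Pr g where
  clsZ : 495 ≤ (cls (CE.gen g (lw S16)) (ev g [21])).ncard
  cC : Nat.card (pg g sC) = 384
  cmC : Eqs g (cms [15] (fs sC) ++ cms [21] (fs sC))

/-- facts about the centraliser of `e` -/
structure FB (g : ℕ → M) : Prop extends Mod g where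
  sq0 : Eqs g SQ0
  cL : Nat.card (pg g sL) = 64
  cS : Nat.card (pg g sS) = 128
  c3 : Nat.card (pg g s3) = 8
  cmS : Eqs g (cms [15] (fs sS) ++ cms [21] (fs sS))
  tA : Tab g (fs sL) [sqE] [[],[21]] AA
  tZ : Tab g (fs sS) ((fs sS).map cmE) Z4 []
  tI : Tab g (fs sS) [sqE] I56 []
  big : NoBig g I56 32
  t3 : Tab g (fs sC) [([[],[],[],[]], [])] ([] :: U32.map fun u => cw iv (u, [8])) []
  mC : Mems g (fs sC) (lw SC1)
  tq : Tab g (fs sC) ([[8]].map cmE) [] (Z4.map fun w => [([[],[],[],[]], [w])])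
  t12 : Tab g (fs sC) ([[8]].map cmE) W12 []
  r12 : Eqs g R12
  rt : Eqs g RT
  et : Eqs g ET
  tac : Tab g (fs sC) Hac [[0],[4]] []
  rb : Eqs g RB
  ky : Eqs g KY
  yr : Eqs g YR
  sg : Eqs g SG
  tp00 : Tab g (fs sC) HP00 CP0 []
  tp01 : Tab g (fs sC) HP01 [] []
  tp10 : Tab g (fs sC) HP10 CP1 []
  tp11 : Tab g (fs sC) HP11 [] []
  nb : Nes g NB
  d4 : Dis g [[15], [15,22], [15,21], [15,21,22]]
  xn : Eqs g XN
  qd : Eqs g QD
  xr : Eqs g XR
  t16 : Tab g (fs sC) ([[22], [19]].map cmE) W16 []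
  n16 : Nes g N16
  ex : Eqs g EX
  al : Eqs g (subE WA (AI ++ E0))
  al2 : Eqs g ((List.range 16).map fun a => ([a], substW WA (VA.getD a [])))
  eh : Eqs g EH

/-- facts about the wreath product -/
structure FW (g : ℕ → M) : Prop extends Mod g where
  ei : Eqs g EI0
  oN2 : Orb g [15] PN2 (fs sB) 384
  n2 : Eqs g (KY ++ (YR ++ (SG ++ FR00)))
  kw : Eqs g KW
  rq : Eqs g RQ
  oX : Orb g [15] PX (fs sC) 384
  q3 : Eqs g [(wq, [])]
  nX : Mems g (fs sR) (cjs iv (fs sR) (lw [17,16,20,23]))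
  nY : Mems g (fs sR) (cjs iv (fs sR) (lw [12,13]))
  p32 : Eqs g (P32.map fun p => (p.1 ++ p.2.1, p.2.2 ++ p.1))
  m32 : Mems g (fs sR) (P32.map fun p => p.2.1)
  d32 : Dis g W32
  tR : Tab g (fs sR) [sqE] W32 [(fs sW).map cmE]
  d48 : Dis g W48
  cM : Nat.card (pg g sM) = 1024
  tM : Tab g (fs sM) [sqE] W48 ([[],[8],[9]].map fun u => ((fs sW).map fun w => cw iv (u, w)).map cmE)
  m48 : Mems g (fs sM) W48
  cW : Nat.card (pg g sW) = 16
  cV : Nat.card (pg g sV) = 32
  eV : Eqs g (elE (fs sV))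
  mR : Mems g (fs sR) (lw [15,18,0,19,22,21])

/-- facts about the Conway group -/
structure FC (g : ℕ → M) : Prop extends FB g where
  ei : Eqs g EI1
  oN2 : Orb g [15] PN2 (fs sB) 384
  n2 : Eqs g (KY ++ (YR ++ (SG ++ FR10)))
  oN1 : Orb g [15] PN1 (fs sC) 384
  tJ : Tab g (fs sC) ([[0], [2], [4], [6], [16]].map cmE) [[],[21]] []
  nJ1 : Mems g (fs sJ) (cjs iv (fs sJ) (lw [8]))
  nJ2 : Mems g (fs sJ) (cjs iv (fs sJ) (lw [20,18]))
  nJ3 : Mems g (fs sJ) (cjs iv (fs sJ) (lw [24]))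
  nJ4 : Mems g (fs sJ) (cjs iv (fs sJ) (lw [26]))
  r3 : Eqs g [(wr, []), (w12, []), (w23, [])]
  a1 : Eqs g (subE WA (nfE DF E10))
  a2 : Eqs g (subE WA (nfE DF [(wp, [1,15,19])]))
  ra1 : Eqs g (RA.take 2 ++ RA.drop 6)
  ra2 : Eqs g [([21,20],[20,21])]
  kc : Eqs g KC
  oP : Orb g [15] PP (fs sC) 384
  tU : Tab g (fs sU) [] U4 []
  eU : Eqs g (elE (fs sU))
  nR1 : Mems g (fs sR) (cjs iv (fs sR) (lw [12,13,19,20,23]))
  nR2 : Mems g (fs sR) (cjs iv (fs sR) (lw [24,25]))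
  tCR : TabM g (fs sC) ([[20], [16], [18], [0], [19], [22]].map cmE) (fs sU)
  ab : Eqs g [(va ++ invw iv wra, []), (vb ++ invw iv wrb, [])]
  ab4 : Eqs g (U4.map (fun u => (rep (u ++ wra) 4, [])) ++ U4.map fun u => (rep (u ++ wrb) 4, []))
  ar : Eqs g (AR.map fun p => (p.1 ++ p.2.1, p.2.2 ++ p.1))
  arm : Mems g (fs sR) (AR.map fun p => p.2.1)
  cj : Eqs g (CJ.map fun p => (p.1, p.2.1 ++ p.2.2))
  cjm : Mems g (fs sR) (CJ.map fun p => p.2.1)
  cu : Eqs g C3
  cj3 : Eqs g (CJ.map fun p => (rep (p.2.1 ++ p.2.2) 3, []))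
  kU : Eqs g (cms [21] (lw SK) ++ cms [22] (lw SK))
  o13 : Orb g [15] P72 (fs sS) 128
  cT : Nat.card (pg g sT) = 1024
  cR : Nat.card (pg g sR) = 256
  cT1 : Nat.card (pg g sT1) = 512
  cK : Nat.card (pg g sK) = 4608
  cU : Nat.card (pg g sU) = 4
  cX : Nat.card (pg g sX) = 32
  cZ : Nat.card (pg g sZ) = 2
  tU2 : Tab g (fs sU) [] (R4.map fun r => cw iv (r, [15]) ++ [15]) []
  tY : TabM g (fs sC) ([[22]].map cmE) (fs sR)
  tR2 : Tab g (fs sR) [] [] (U4.map fun u => [([[],[],[]], [u])])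
  tR : Tab g (fs sR) [sqE] (K72.map (fun u => cw iv (u, [15])) ++ SQ.map fun w => w ++ w) []
  tT1 : Tab g (fs sT1) [sqE] ((K72.map (fun u => cw iv (u, [15])) ++ SQ.map fun w => w ++ w) ++ R32.map fun u => cw iv (u, wt)) []
  tX : Tab g (fs sX) [] (R32.map fun u => invw iv wt ++ cw iv (u, wt)) []
  big2 : NoBig g (K72.map fun u => 15 :: cw iv (u, [15])) 32
  mK : Mems g (fs sK) (lw SK)
  mR : Mems g (fs sR) (lw [0,1,15,16,18,19,20,21,22])
  mT1 : Mems g (fs sT1) [wt]
  ek : Eqs g EK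
  et1 : Eqs g [([15,24], [8,15,20,18,9])]
  et2 : Eqs g [([15,20,18], [28,26,16,15,16,27,29])]
  sqr : Eqs g (SQR.map fun p => (p.1, p.2.flatMap fun w => w ++ w))
  dc : Mems g (fs sR) (DC.map fun p => p.1 ++ (p.2.1 ++ invw iv p.2.2))
  nK : Mems g (fs sR) (cjs iv (fs sR) (fs sK))
  n3 : Eqs g ((N7 ++ N2).map fun w => (rep w 3, []))
  b1 : TabM g (fs sR) ([[26]].map cmE) (fs sU)
  b2 : TabM g (fs sR) ([[27]].map cmE) (fs sU)
  gd : Nes g (N7.flatMap fun n => (N7 ++ N2).tail.map fun m =>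
    cw iv (m, 15 :: cw iv (n, wd)) ++ invw iv (15 :: cw iv (n, wd)))
  two : Out g (fs sU) ([26] :: (N7 ++ N2).map fun n => cw iv (n, cw iv (wt, [15])) ++ [15])
  nO1 : Mems g (fs sO) (cjs iv (fs sO) (lw [8,24,23,0]))
  nO2 : Mems g (fs sO) (cjs iv (fs sO) (lw [28]))
  tO : Tab g (fs sK) ((fs sO).map cmE) I4 []
  r13 : Eqs g R13
  rPa : Eqs g RPa
  wk1 : Eqs g (weak [21] [8,0,23,24,18,20,16,15,19])
  wk : Eqs g (weak w12 SW ++ weak w23 SW)
  nU : Mems g (fs sU) (cjs iv (fs sU) (lw S13))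
  oU : Out g (fs sU) [[8,22,9]]
  clsH : 630 ≤ (cls (CE.gen g (lw SH)) (ev g [22])).ncard
  tT : Tab g (fs sT) [sqE] ([[],[21]] ++ (H54.map (fun u => cw iv (u, [22])) ++ H136.map fun u => cw iv (u, [15]))) []
  tZ1 : Tab g (fs sZ) [] [[],[21]] []
  zT : Mems g (fs sZ) ((fs sT).map (fun u => cw iv (u, [22]) ++ [22]) ++ [[22,8,22,9,9,22,8]])
  oZ : Out g (fs sZ) [[22,8,22,9], [22]]

end CL.Rec.M3
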